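import Cfsg.Agent.H669.TensExt
import Cfsg.Agent.H424.DegTools
import Cfsg.Agent.H591.Cliff
import Cfsg.Agent.H672.Over
import Cfsg.Prelude.Def_KGroupFacts

/-!
# Degrees over a nonabelian minimal normal subgroup (helper504)

`N` a nonabelian minimal normal subgroup of `G`, a product of `m` copies of a simple group `S`.

* `index_normalizer` : the normalizer of a factor has index `m`;
* `mul_mem` : `m φ(1)` is a degree of `G`, `φ` an irreducible character of the group of automorphisms of a factor
  induced by its normalizer, `φ` over `α ≠ 1`;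
* `MFac`, `exists_mfac` : what is used.
-/

set_option autoImplicit false
set_option linter.unusedSectionVars false

namespace Cfsg.Agent.H504.AN

open Cfsg Cfsg.Agent.Characters.Core Cfsg.Agent.H713 Subgroup
open Cfsg.Agent.H672 (Over over_iff over_comp_iff over_comp_equiv exists_over_subtype charDegree_dvd_of_over
  coe_charDegree charDegree_pos charDegree_of_eq)

universe u

section one

variable {G : Type u} [Group G] {m : ℕ} {N : Subgroup G} [hNn : N.Normal] {T : Fin m → Subgroup G}
  (e : N ≃* (∀ i, T i))

/-- The normalizer of a factor has index `m`. -/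
theorem index_normalizer (hTinj : Function.Injective T)
    (hconj : ∀ (g : G) i, ∃ j, T j = (T i).map (MulAut.conj g).toMonoidHom)
    (htrans : ∀ i j, ∃ g : G, T j = (T i).map (MulAut.conj g).toMonoidHom) (o : Fin m) :
    (normalizer (T o : Set G) : Subgroup G).index = m := by
  classical
  choose f hf using hconj
  have hf1 : ∀ i, f 1 i = i := by
    intro i
    apply hTinj
    rw [hf, Cfsg.Agent.Lib.MinNormal.map_conj_one]
  have hf2 : ∀ x y i, f (x * y) i = f x (f y i) := by
    intro x y i
    apply hTinj
    rw [hf, hf x, hf y, Cfsg.Agent.Lib.MinNormal.map_conj_map_conj]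
  let act : MulAction G (Fin m) :=
    { smul := f
      one_smul := hf1
      mul_smul := hf2 }
  have hsm : ∀ (x : G) i, x • i = f x i := fun _ _ => rfl
  have htr : MulAction.IsPretransitive G (Fin m) := by
    constructor
    intro i j
    obtain ⟨g, hg⟩ := htrans i j
    refine ⟨g, ?_⟩
    apply hTinj
    rw [hsm, hf, hg]
  have hst : MulAction.stabilizer G o = (normalizer (T o : Set G) : Subgroup G) := by
    ext x
    rw [MulAction.mem_stabilizer_iff, Subgroup.mem_normalizer_iff_map_conj_eq, hsm]
    constructor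
    · intro h
      exact (hf x o).symm.trans (congrArg T h)
    · intro h
      exact hTinj ((hf x o).trans h)
  rw [← hst, MulAction.index_stabilizer_of_transitive, Nat.card_fin]

/-- The coordinate homomorphism. -/
def crd (o : Fin m) : N →* T o := (Pi.evalMonoidHom (fun i => T i) o).comp e.toMonoidHom

theorem crd_apply (o : Fin m) (n : N) : crd e o n = e n o := rfl

theorem crd_surj (o : Fin m) : Function.Surjective (crd e o) := by
  classical
  intro t
  refine ⟨e.symm (Pi.mulSingle o t), ?_⟩
  rw [crd_apply, MulEquiv.apply_symm_apply, Pi.mulSingle_eq_same]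

/-- The inner automorphisms of `T` in the image of the normalizer. -/
def inn (A : Subgroup G) : A →* A.normalizerMonoidHom.range :=
  A.normalizerMonoidHom.rangeRestrict.comp (Subgroup.inclusion A.le_normalizer)

theorem inn_coe (A : Subgroup G) (a : A) : ((inn A a : A.normalizerMonoidHom.range) : MulAut A) = MulAut.conj a := by
  apply MulEquiv.ext
  intro b
  apply Subtype.ext
  rfl

/-- An irreducible character with constant value is trivial. -/
theorem eq_one_of_const {S : Type u} [Group S] [Finite S] {α : S → ℂ} (hα : IsIrrCharacter S α)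
    (h : ∀ s, α s = α 1) : α = 1 := by
  classical
  have := Fintype.ofFinite S
  by_contra hne
  have h1 := classInner_irr_ne hα (isIrr_one (G := S)) hne
  have h2 : α = (α 1) • (1 : S → ℂ) := by
    funext s
    rw [h s, Pi.smul_apply, Pi.one_apply, smul_eq_mul, mul_one]
  rw [h2, classInner_smul_left, classInner_irr_self isIrr_one, mul_one] at h1
  exact isIrr_apply_one_ne_zero hα h1

/-- **Degrees `m φ(1)`.** -/
theorem mul_mem [Finite G] (hTinj : Function.Injective T) (hTN : ∀ i, T i ≤ N)
    (hTn : ∀ i, N ≤ Subgroup.normalizer (T i : Set G))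
    (hconj : ∀ (g : G) i, ∃ j, T j = (T i).map (MulAut.conj g).toMonoidHom)
    (htrans : ∀ i j, ∃ g : G, T j = (T i).map (MulAut.conj g).toMonoidHom)
    (he : ∀ i (t : T i), ((e.symm (Pi.mulSingle i t) : N) : G) = t)
    (hc : ∀ (n : N) i, e n i = 1 ↔ ∀ t ∈ T i, Commute (n : G) t)
    (o : Fin m) {α : T o → ℂ} (hα : IsIrrCharacter (T o) α) (hα1 : α ≠ 1)
    {φ : (T o).normalizerMonoidHom.range → ℂ} (hφ : IsIrrCharacter _ φ) (hov : Over (inn (T o)) φ α) :
    m * charDegree φ ∈ charDegrees G := by
  classical
  have := Fintype.ofFinite G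
  have := Fintype.ofFinite N
  let Y : Subgroup G := normalizer (T o : Set G)
  have := Fintype.ofFinite Y
  let f : Y →* (T o).normalizerMonoidHom.range := (T o).normalizerMonoidHom.rangeRestrict
  have hf : Function.Surjective f := (T o).normalizerMonoidHom.rangeRestrict_surjective
  have hψ : IsIrrCharacter Y (φ ∘ f) := isIrr_comp f hf hφ
  have hθ : IsIrrCharacter N (α ∘ crd e o) := isIrr_comp _ (crd_surj e o) hα
  have hNY : N ≤ Y := hTn o
  -- the two homomorphisms `N → B`
  have hhom : (inn (T o)).comp (crd e o) = f.comp (Subgroup.inclusion hNY) := by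
    ext n b
    have h1 : ∀ u : T o, (n : G) * u * (n : G)⁻¹ = (e n o : G) * u * (e n o : G)⁻¹ := by
      intro u
      have h2 := (hc ((⟨e n o, hTN o (e n o).2⟩ : N)⁻¹ * n) o).1 (by
        have h1 : e (⟨e n o, hTN o (e n o).2⟩ : N) = Pi.mulSingle o (e n o) := by
          apply e.symm.injective
          rw [MulEquiv.symm_apply_apply]
          exact Subtype.ext (he o (e n o)).symm
        rw [map_mul, map_inv, h1, Pi.mul_apply, Pi.inv_apply, Pi.mulSingle_eq_same]
        simp) u u.2
      have h3 : ((e n o : G))⁻¹ * (n : G) * u = u * (((e n o : G))⁻¹ * (n : G)) := h2.eq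
      have h4 : (n : G) * u * (n : G)⁻¹ = (e n o : G) * (((e n o : G))⁻¹ * (n : G) * u) * (n : G)⁻¹ := by group
      rw [h4, h3]
      group
    exact (h1 b).symm
  have hover : classInner (OddOrderCharacters.PF9.CliffGen.resTo hNY (φ ∘ f)) (α ∘ crd e o) ≠ 0 := by
    have h1 : Over ((inn (T o)).comp (crd e o)) φ (α ∘ crd e o) := by
      refine (over_comp_iff (inn (T o)) (crd e o) (isIrr_isCharacter hφ) hθ).2 ⟨α, hα, hov, ?_⟩
      rw [over_iff, classInner_irr_self hθ]
      exact one_ne_zero
    rw [hhom, over_iff] at h1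
    exact h1
  have hst : ∀ g, OddOrderCharacters.NormalInduced.conjFn N (α ∘ crd e o) g = α ∘ crd e o → g ∈ Y := by
    intro g hg
    by_contra hgY
    apply hα1
    apply eq_one_of_const hα
    intro t
    obtain ⟨j, hj⟩ := hconj g⁻¹ o
    have hj' : T o = (T j).map (MulAut.conj g).toMonoidHom := by
      rw [hj, Cfsg.Agent.Lib.MinNormal.map_conj_map_conj, mul_inv_cancel, Cfsg.Agent.Lib.MinNormal.map_conj_one]
    have hjo : j ≠ o := by
      rintro rfl
      exact hgY (Subgroup.mem_normalizer_iff_map_conj_eq.2 hj'.symm)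
    have h1 := congrFun hg (e.symm (Pi.mulSingle o t))
    have h2 : (α ∘ crd e o) (e.symm (Pi.mulSingle o t)) = α t := by
      rw [Function.comp_apply, crd_apply, MulEquiv.apply_symm_apply, Pi.mulSingle_eq_same]
    rw [h2] at h1
    rw [← h1, OddOrderCharacters.NormalInduced.conjFn_apply, Function.comp_apply]
    have h3 := coord_conj e hTN he hc g j o hj' (e.symm (Pi.mulSingle o t))
    rw [MulEquiv.apply_symm_apply, Pi.mulSingle_eq_of_ne hjo] at h3
    congr 1
    apply Subtype.ext
    refine Eq.trans ?_ (h3.trans ?_)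
    · rfl
    · simp
  have hirr := H591.Cliff.irr_ind hθ hst hNY hψ hover
  have hi : Y.index = m := index_normalizer hTinj hconj htrans o
  refine H424.DegTools.mem_charDegrees.2 ⟨_, hirr, ?_⟩
  rw [CharactersDeep.NormalInd.indFun_one, hi, Function.comp_apply, map_one, Nat.cast_mul, coe_charDegree hφ]

end one

/-- What a nonabelian minimal normal subgroup `N` of `G` with `m` simple factors `S` gives. -/
structure MFac {G : Type u} [Group G] (N : Subgroup G) (m : ℕ) (S : Type u) [Group S] : Prop where
  pos : 0 < m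
  finite : Finite S
  simple : IsSimpleGroup S
  nonab : ¬ IsMulCommutative S
  equiv : Nonempty (N ≃* (Fin m → S))
  pow : ∀ {d : ℕ}, d ∈ charDegrees S → ∃ d' ∈ charDegrees G, d ^ m ∣ d'
  mul : ∀ {d : ℕ}, d ∈ charDegrees S → d ≠ 1 → ∃ c : ℕ, c ∣ Nat.card (Out S) ∧ m * (c * d) ∈ charDegrees G
  ext : ∀ α : IrrCharacter S, charDegree (α : S → ℂ) ≠ 1 →
    (∃ ψ : IrrCharacter (MulAut S), ∀ s : S, (ψ : MulAut S → ℂ) (MulAut.conj s) = (α : S → ℂ) s) →
    charDegree (α : S → ℂ) ^ m ∈ charDegrees G ∧ m * charDegree (α : S → ℂ) ∈ charDegrees G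

theorem mem_of_charDegree {G : Type u} [Group G] {χ : G → ℂ} (hχ : IsIrrCharacter G χ) :
    charDegree χ ∈ charDegrees G := ⟨⟨χ, hχ⟩, rfl⟩

/-- **A nonabelian minimal normal subgroup.** -/
theorem exists_mfac {G : Type u} [Group G] [Finite G] (N : Subgroup G) [N.Normal]
    (hmin : ∀ M : Subgroup G, M.Normal → M ≤ N → M = ⊥ ∨ M = N)
    (hna : ¬ ∀ x ∈ N, ∀ y ∈ N, Commute x y) : ∃ (m : ℕ) (S : Type u) (_ : Group S), MFac N m S := by
  classical
  obtain ⟨m, T, e, hm, hsimple, hTna, hTinj, hTN, hTn, hconj, htrans, he, hcoord⟩ :=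
    Cfsg.Agent.PermutationGroups.OnanScott.exists_coordinates N hmin hna
  set o : Fin m := ⟨0, hm⟩ with ho
  choose g hg using fun i => htrans o i
  let E : N ≃* (Fin m → T o) := e.trans (MulEquiv.piCongrRight fun i => (conjIso (g i) (hg i)).symm)
  have hsimp := hsimple o
  have hna' : ¬ IsMulCommutative (T o) := by
    intro h
    obtain ⟨a, b, hab⟩ := hTna o
    exact hab (h.is_comm.comm a b)
  have hcen : Subgroup.center (T o) = ⊥ := by
    rcases IsSimpleGroup.eq_bot_or_eq_top_of_normal (Subgroup.center (T o)) inferInstance with h | h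
    · exact h
    · exfalso
      obtain ⟨a, b, hab⟩ := hTna o
      have h1 : a ∈ Subgroup.center (T o) := by rw [h]; exact Subgroup.mem_top a
      exact hab (Subgroup.mem_center_iff.1 h1 b).symm
  refine ⟨m, T o, inferInstance, hm, inferInstance, hsimp, hna', ⟨E⟩, ?_, ?_, ?_⟩
  · intro d hd
    obtain ⟨α, hα, h1⟩ := H424.DegTools.mem_charDegrees.1 hd
    have h2 : d ^ m ∈ charDegrees (Fin m → T o) := by
      refine H424.DegTools.mem_charDegrees.2 ⟨_, isIrr_pi (ι := Fin m) hα, ?_⟩
      simp [h1]
    rw [← H424.DegTools.charDegrees_congr E] at h2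
    obtain ⟨d', h3, h4, -⟩ := H424.DegTools.clifford_up N h2
    exact ⟨d', h3, h4⟩
  · intro d hd hd1
    obtain ⟨α, hα, h1⟩ := H424.DegTools.mem_charDegrees.1 hd
    have hα1 : α ≠ 1 := by
      rintro rfl
      rw [Pi.one_apply] at h1
      exact hd1 (by exact_mod_cast h1.symm)
    let B : Subgroup (MulAut (T o)) := (T o).normalizerMonoidHom.range
    let I : Subgroup B := (Inn (T o)).subgroupOf B
    have hmemI : ∀ a : T o, inn (T o) a ∈ I := fun a => Subgroup.mem_subgroupOf.2 ⟨a, (inn_coe (T o) a).symm⟩
    let j : T o →* I := (inn (T o)).codRestrict I hmemI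
    have hj1 : Function.Injective j := by
      rw [injective_iff_map_eq_one]
      intro a ha
      have h2 : inn (T o) a = 1 := congrArg Subtype.val ha
      have h3 : MulAut.conj a = 1 := by
        rw [← inn_coe, h2]
        rfl
      have h4 : a ∈ Subgroup.center (T o) := by
        rw [Subgroup.mem_center_iff]
        intro b
        have h5 := DFunLike.congr_fun h3 b
        rw [MulAut.conj_apply, MulAut.one_apply] at h5
        exact (mul_inv_eq_iff_eq_mul.1 h5).symm
      rw [hcen, Subgroup.mem_bot] at h4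
      exact h4
    have hj2 : Function.Surjective j := by
      rintro ⟨b, hb⟩
      obtain ⟨a, ha⟩ := Subgroup.mem_subgroupOf.1 hb
      refine ⟨a, Subtype.ext (Subtype.ext ?_)⟩
      rw [← ha]
      exact inn_coe (T o) a
    let J : T o ≃* I := MulEquiv.ofBijective j ⟨hj1, hj2⟩
    have hα' : IsIrrCharacter I (α ∘ J.symm) := isIrr_comp J.symm.toMonoidHom J.symm.surjective hα
    obtain ⟨φ, hφ, hov⟩ := exists_over_subtype I hα'
    have hov' : Over (inn (T o)) φ α := by
      have h2 := (over_comp_equiv I.subtype J φ (α ∘ J.symm)).2 hov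
      have h3 : I.subtype.comp J.toMonoidHom = inn (T o) := rfl
      have h4 : (α ∘ J.symm) ∘ J = α := by
        funext a
        simp
      rw [h3, h4] at h2
      exact h2
    obtain ⟨h2, h3⟩ := charDegree_dvd_of_over I hφ hα' hov
    have h4 : charDegree (α ∘ J.symm) = d := by
      apply charDegree_of_eq
      rw [Function.comp_apply, map_one, h1]
    rw [h4] at h2 h3
    obtain ⟨c, hc⟩ := h2
    have hdpos : 0 < d := H424.DegTools.pos_of_mem hd
    rw [hc, Nat.mul_div_cancel_left _ hdpos] at h3
    refine ⟨c, ?_, ?_⟩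
    · have h5 : I.index ∣ (Inn (T o)).index := Subgroup.relIndex_dvd_index_of_normal (Inn (T o)) B
      exact h3.trans h5
    · rw [mul_comm c d, ← hc]
      exact mul_mem e hTinj hTN hTn hconj htrans he hcoord o hα hα1 hφ hov'
  · rintro α hα1 ⟨ψ, hψα⟩
    obtain ⟨χ, hχ, hχN⟩ := H669.TensExt.exists_extension_coord e hTinj hTN hTn hconj he hcoord o g hg α.2
      (isIrr_isCharacter ψ.2) hψα
    constructor
    · refine H424.DegTools.mem_charDegrees.2 ⟨χ, hχ, ?_⟩
      have h1 := hχN 1
      rw [Subgroup.coe_one] at h1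
      rw [h1]
      simp only [map_one, Pi.one_apply, Finset.prod_const, Finset.card_univ, Fintype.card_fin]
      rw [← coe_charDegree α.2]
      push_cast
      rfl
    · let B : Subgroup (MulAut (T o)) := (T o).normalizerMonoidHom.range
      obtain ⟨d, ρ, hρ, hρψ⟩ := ψ.2
      let φ : B → ℂ := fun b => (ψ : MulAut (T o) → ℂ) b
      have h0 : ∀ a : T o, φ (inn (T o) a) = (α : T o → ℂ) a := by
        intro a
        change (ψ : MulAut (T o) → ℂ) (inn (T o) a : B) = _
        rw [inn_coe, hψα]
      have hφ : IsIrrCharacter B φ := by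
        let ρ' : Representation ℂ B (Fin d → ℂ) := ρ.comp B.subtype
        have h1 : φ = ρ'.character := by
          funext b
          change (ψ : MulAut (T o) → ℂ) b = _
          rw [← hρψ]
          rfl
        rw [h1]
        refine isIrrCharacter_of_rep ρ' ?_
        apply Cfsg.Agent.CharDeep.LinearChar.isIrreducible_of_comp (inn (T o))
        apply isIrreducible_of_isIrrCharacter
        convert α.2 using 1
        funext a
        rw [← h0 a, h1]
        rfl
      have hov : Over (inn (T o)) φ α := by
        have := Fintype.ofFinite (T o)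
        rw [over_iff]
        have h1 : φ ∘ inn (T o) = α := funext h0
        rw [h1, classInner_irr_self α.2]
        exact one_ne_zero
      have hα' : ((α : T o → ℂ)) ≠ 1 := by
        intro h
        apply hα1
        apply charDegree_of_eq (n := 1)
        rw [h]
        simp
      have hd : charDegree φ = charDegree (α : T o → ℂ) := by
        apply charDegree_of_eq
        rw [coe_charDegree α.2, ← h0 1, map_one]
      rw [← hd]
      exact mul_mem e hTinj hTN hTn hconj htrans he hcoord o α.2 hα' hφ hov

/-- **Itô-Michler**: the `m`-th power of a prime divisor of `|S|` divides a degree of `G`. -/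
theorem MFac.prime_pow {G : Type u} [Group G] {N : Subgroup G} [N.Normal] {m : ℕ} {S : Type u} [Group S]
    (h : MFac N m S) (hIM : ∀ p : ℕ, p.Prime → p ∣ Nat.card S → ∃ d ∈ charDegrees S, p ∣ d) {p : ℕ} (hp : p.Prime)
    (hd : p ∣ Nat.card S) : ∃ d' ∈ charDegrees G, p ^ m ∣ d' := by
  obtain ⟨d, h1, h2⟩ := hIM p hp hd
  obtain ⟨d', h3, h4⟩ := h.pow h1
  exact ⟨d', h3, (pow_dvd_pow_of_dvd h2 m).trans h4⟩

/-- one factor -/
theorem MFac.simple_of_one {G : Type u} [Group G] {N : Subgroup G} [N.Normal] {S : Type u} [Group S]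
    (h : MFac N 1 S) : IsSimpleGroup N := by
  obtain ⟨e⟩ := h.equiv
  have hs := h.simple
  have e' : N ≃* S := e.trans (MulEquiv.funUnique (Fin 1) S)
  have hn : Nontrivial N := e'.toEquiv.nontrivial
  exact IsSimpleGroup.isSimpleGroup_of_surjective e'.symm.toMonoidHom e'.symm.surjective

end Cfsg.Agent.H504.AN
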