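import Cfsg.Agent.H504.AN.SporRows
import Cfsg.Agent.S0000
import Cfsg.Agent.S4760

/-!
# C2 of S4766: a nonabelian minimal normal subgroup is simple (helper504)

* `c2_simple` : `Y` a finite group whose degrees are degrees of `A_n`: a nonabelian minimal normal subgroup is simple.
-/

set_option autoImplicit false

namespace Cfsg.Agent.H504.AN

open Cfsg Cfsg.Agent.H691.AN Cfsg.Agent.H704

universe u

theorem exists_dvd_degree {S : Type u} [Group S] [Finite S] [IsSimpleGroup S] (hna : ¬ IsMulCommutative S) {p : ℕ}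
    (hp : p.Prime) (hd : p ∣ Nat.card S) : ∃ d ∈ charDegrees S, p ∣ d := by
  have : Fact p.Prime := ⟨hp⟩
  by_contra hcon
  push Not at hcon
  obtain ⟨P⟩ := (inferInstance : Nonempty (Sylow p S))
  have h1 := (S4760.result p P).2 fun χ hχ => hcon _ ⟨χ, rfl⟩ hχ
  obtain ⟨h2, h3⟩ := h1
  rcases IsSimpleGroup.eq_bot_or_eq_top_of_normal (P : Subgroup S) h2 with h | h
  · have h4 : p ∣ Nat.card (P : Subgroup S) := P.dvd_card_of_dvd_card hd
    rw [h, Subgroup.card_bot] at h4
    exact hp.one_lt.ne' (Nat.dvd_one.1 h4)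
  · apply hna
    refine ⟨⟨fun a b => ?_⟩⟩
    have ha : a ∈ (P : Subgroup S) := by rw [h]; exact Subgroup.mem_top a
    have hb : b ∈ (P : Subgroup S) := by rw [h]; exact Subgroup.mem_top b
    exact congrArg Subtype.val (h3.is_comm.comm (⟨a, ha⟩ : (P : Subgroup S)) ⟨b, hb⟩)

theorem row_all {n k : ℕ} (hn : 5 ≤ n) (hk : 2 ≤ k) {S : Type u} [Group S] [Finite S] [IsSimpleGroup S]
    (hna : ¬ IsMulCommutative S) (H : Hyp n k S) : False := by
  rcases H671.FactRows.split (fun X _ _ _ => S0000.result (G := X)) S hna with ⟨l, hl, ⟨e⟩⟩ | ⟨r, hr, h⟩ | h | h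
  · exact row_alt hn hk hna H hl e
  · exact row_lie hn hk hna H hr h
  · exact row_tits hk hn (H489.card_out_tits h) H h
  · exact row_sporadic hk hn (H489.card_out_sporadic h) H h

/-- **C2** -/
theorem c2_simple {n : ℕ} (hn : 5 ≤ n) {Y : Type u} [Group Y] [Finite Y] (h : charDegrees Y ⊆ D n) (W : Subgroup Y)
    (hW : W.Normal) (_hne : W ≠ ⊥) (hmin : ∀ K : Subgroup Y, K.Normal → K ≤ W → K = ⊥ ∨ K = W)
    (hna : ¬ IsMulCommutative W) : IsSimpleGroup W := by
  have hna' : ¬ ∀ x ∈ W, ∀ y ∈ W, Commute x y := by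
    intro hc
    exact hna ⟨⟨fun a b => Subtype.ext (hc a a.2 b b.2)⟩⟩
  obtain ⟨m, S, iS, F⟩ := exists_mfac W hmin hna'
  have hfin := F.finite
  have hsimp := F.simple
  rcases Nat.lt_or_ge m 2 with hm | hm
  · have hm1 : m = 1 := by have := F.pos; omega
    subst hm1
    exact F.simple_of_one
  · exfalso
    refine row_all hn hm F.nonab ⟨?_, ?_, ?_⟩
    · intro d hd hd1
      obtain ⟨c, h1, h2⟩ := F.mul hd hd1
      exact ⟨c, h1, h h2⟩
    · intro α hα hψ
      obtain ⟨h1, h2⟩ := F.ext α hα hψ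
      exact ⟨h h1, h h2⟩
    · intro p hp hpd
      obtain ⟨d', h1, h2⟩ := F.prime_pow (fun q hq hqd => exists_dvd_degree F.nonab hq hqd) hp hpd
      exact h2.trans (dvd_factorial_of_mem (h h1))

end Cfsg.Agent.H504.AN
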