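import Cfsg.Agent.H504.AN.Num
import Cfsg.Agent.H504.AN.MinDeg
import Cfsg.Agent.H671.FactRows
import Cfsg.Agent.H489.OutSpor
import Cfsg.Agent.H679.LieAlt
import Cfsg.Agent.H727.Orth.TwoPart

/-!
# Several simple factors: Lie type and alternating groups (helper504, C2 of S4766)

* `Hyp n k S` : the conditions on the degrees of `A_n` given by a minimal normal subgroup `S ^ k`;
* `row_lie`, `row_alt` : impossible for `2 ≤ k`;
* `spor_row` : the criterion for the sporadic groups.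
-/

set_option autoImplicit false

namespace Cfsg.Agent.H504.AN

open Cfsg Cfsg.Agent.H691.AN Cfsg.Agent.H704

universe u

/-- the conditions given by a minimal normal subgroup `S ^ k` of a group with degrees in `D n` -/
structure Hyp (n k : ℕ) (S : Type u) [Group S] : Prop where
  mul : ∀ {d : ℕ}, d ∈ charDegrees S → d ≠ 1 → ∃ c : ℕ, c ∣ Nat.card (Out S) ∧ k * (c * d) ∈ D n
  ext : ∀ α : IrrCharacter S, charDegree (α : S → ℂ) ≠ 1 →
    (∃ ψ : IrrCharacter (MulAut S), ∀ s : S, (ψ : MulAut S → ℂ) (MulAut.conj s) = (α : S → ℂ) s) →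
    charDegree (α : S → ℂ) ^ k ∈ D n ∧ k * charDegree (α : S → ℂ) ∈ D n
  pr : ∀ p : ℕ, p.Prime → p ∣ Nat.card S → p ^ k ∣ n.factorial

theorem mem_list {n d : ℕ} (hn : 5 ≤ n) (hn' : n ≤ 19) (h : d ∈ D n) : d ∈ H835.AN.degA n :=
  (H835.AN.mem_D_iff_of (fun h _ h' _ h2 => H89.AN.a1_mem h h' h2) (fun h _ h' => H89.AN.a2_part h h') hn hn').1 h

theorem a5 {n : ℕ} (hn : 10 ≤ n) {p k : ℕ} (hp : p.Prime) (hk : 0 < k) (h : p ^ k ∈ D n) : p ^ k = n - 1 :=
  H71.AN.a5_of (fun h _ h' => H89.AN.a2_part h h') hn hp hk h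

theorem a6 {n : ℕ} (hn : 7 ≤ n) {d : ℕ} (hd : d ∈ D n) : d = 1 ∨ n - 1 ≤ d :=
  H71.AN.a6_of (fun h _ h' => H89.AN.a2_part h h') hn hd

/-! ### Lie type -/

theorem small_pp : ∀ n : Fin 10, 5 ≤ (n : ℕ) → ∀ k : Fin 9, 2 ≤ (k : ℕ) → ∀ q : Fin 16, 3 ≤ (q : ℕ) →
    ¬ ((H835.AN.degA n).contains ((q : ℕ) ^ (k : ℕ)) = true ∧ (H835.AN.degA n).contains ((k : ℕ) * q) = true) := by
  decide +kernel

theorem max_small : ∀ n : Fin 10, 5 ≤ (n : ℕ) → ((H835.AN.degA n).all fun x => decide (x < 256)) = true := by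
  decide +kernel

/-- two degrees given by an extendible character of prime power degree -/
theorem pp_kill {n k r v : ℕ} (hn : 5 ≤ n) (hk : 2 ≤ k) (hr : r.Prime) (hv : 0 < v) (hq : 3 ≤ r ^ v)
    (h1 : (r ^ v) ^ k ∈ D n) (h2 : k * r ^ v ∈ D n) : False := by
  rcases Nat.lt_or_ge n 10 with h10 | h10
  · have h3 := mem_list hn (by omega) h1
    have h4 := mem_list hn (by omega) h2
    have h5 : (r ^ v) ^ k < 256 := by
      have h6 := max_small ⟨n, h10⟩ hn
      rw [List.all_eq_true] at h6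
      simpa using h6 _ h3
    generalize r ^ v = q at *
    have hk8 : k < 9 := by
      by_contra hcon
      have h7 : 3 ^ 9 ≤ q ^ k := (Nat.pow_le_pow_right (by norm_num) (by omega)).trans (Nat.pow_le_pow_left hq k)
      omega
    have hq16 : q < 16 := by
      by_contra hcon
      have h7 : 16 ^ 2 ≤ q ^ k := (Nat.pow_le_pow_left (by omega) 2).trans (Nat.pow_le_pow_right (by omega) hk)
      omega
    refine small_pp ⟨n, h10⟩ hn ⟨k, hk8⟩ hk ⟨q, hq16⟩ hq ⟨?_, ?_⟩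
    · simpa using h3
    · simpa using h4
  · rw [← pow_mul] at h1
    have h3 := a5 h10 hr (Nat.mul_pos hv (by omega)) h1
    rw [pow_mul] at h3
    generalize r ^ v = q at *
    rcases a6 (by omega) h2 with h4 | h4
    · have : 2 * 3 ≤ k * q := Nat.mul_le_mul hk hq
      omega
    · rw [← h3] at h4
      obtain ⟨j, rfl⟩ := Nat.exists_eq_add_of_le' (show 1 ≤ k by omega)
      rw [pow_succ] at h4
      have h5 : q ^ j ≤ j + 1 := Nat.le_of_mul_le_mul_right h4 (by omega)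
      have h6 : j + 1 < 3 ^ j := by
        have hj : 1 ≤ j := by omega
        clear * - hj
        induction j, hj using Nat.le_induction with
        | base => norm_num
        | succ j hj ih => rw [pow_succ]; omega
      have h7 := Nat.pow_le_pow_left hq j
      omega

/-- **Lie type.** -/
theorem row_lie {n k : ℕ} (hn : 5 ≤ n) (hk : 2 ≤ k) {S : Type u} [Group S] [Finite S] [IsSimpleGroup S]
    (hna : ¬ IsMulCommutative S) (H : Hyp n k S) {r : ℕ} (hr : r.Prime) (h : IsLieTypeChar r S) : False := by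
  have : Fact r.Prime := ⟨hr⟩
  obtain ⟨θ, h1, h2⟩ := H761.LieExt.lie_ext hna h
  have h3 := H671.FactRows.prime_dvd_of_lie hr h
  have h4 : 0 < (Nat.card S).factorization r := Nat.Prime.factorization_pos_of_dvd hr Nat.card_pos.ne' h3
  have h5 : 3 ≤ r ^ (Nat.card S).factorization r := by
    rcases Nat.lt_or_ge r 3 with h6 | h6
    · have h7 : r = 2 := by have := hr.two_le; omega
      subst h7
      have h8 := H727.Orth.four_dvd hna
      have h9 : 2 ≤ (Nat.card S).factorization 2 :=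
        (Nat.prime_two.pow_dvd_iff_le_factorization Nat.card_pos.ne').1 (by norm_num; exact h8)
      have := Nat.pow_le_pow_right (n := 2) (by norm_num) h9
      omega
    · calc 3 ≤ r := h6
        _ = r ^ 1 := (pow_one r).symm
        _ ≤ _ := Nat.pow_le_pow_right hr.pos h4
  have h6 : charDegree (θ : S → ℂ) ≠ 1 := by rw [h1]; omega
  obtain ⟨k1, k2⟩ := H.ext θ h6 h2
  rw [h1] at k1 k2
  exact pp_kill hn hk hr h4 h5 k1 k2

/-! ### Alternating groups -/

theorem one_or_two {c m : ℕ} (hm : m ≤ 2) (h0 : m ≠ 0) (h : c ∣ m) : c = 1 ∨ c = 2 := by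
  have h1 := Nat.le_of_dvd (by omega) h
  have h2 : c ≠ 0 := by rintro rfl; exact h0 (zero_dvd_iff.1 h)
  omega

theorem Hyp.two {n k : ℕ} {S : Type u} [Group S] [Finite S] (H : Hyp n k S) (hout : Nat.card (Out S) ≤ 2) {a : ℕ}
    (ha : a ∈ charDegrees S) (ha1 : a ≠ 1) : k * a ∈ D n ∨ 2 * (k * a) ∈ D n := by
  obtain ⟨c, hc, h⟩ := H.mul ha ha1
  have : Finite (MulAut S) := Finite.of_injective _ (DFunLike.coe_injective (F := MulAut S))
  rcases one_or_two hout Nat.card_pos.ne' hc with rfl | rfl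
  · left; rwa [one_mul] at h
  · right; rwa [show 2 * (k * a) = k * (2 * a) by ring]

/-- the low degrees, `n ≥ 13` -/
theorem low_list : ∀ n : Fin 20, 13 ≤ (n : ℕ) → ((H835.AN.degA n).all fun x => decide (x = 1 ∨ x = n - 1 ∨
    (n : ℕ) * (n - 3) ≤ 2 * x)) = true := by
  decide +kernel

theorem low_all {n x : ℕ} (hn : 13 ≤ n) (hx : x ∈ D n) (h : 2 * x < n * (n - 3)) : x = 1 ∨ x = n - 1 := by
  rcases Nat.lt_or_ge n 20 with h20 | h20
  · have h1 := mem_list (by omega) (by omega) hx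
    have h2 := low_list ⟨n, h20⟩ hn
    rw [List.all_eq_true] at h2
    have h3 := of_decide_eq_true (h2 x h1)
    change x = 1 ∨ x = n - 1 ∨ n * (n - 3) ≤ 2 * x at h3
    omega
  · exact low3 h20 hx h

theorem exists_prime_half {l : ℕ} (hl : 7 ≤ l) : ∃ p : ℕ, p.Prime ∧ p ≤ l ∧ l + 1 ≤ 2 * p ∧ 5 ≤ p := by
  by_cases h : l ≤ 9
  · have h7 : Nat.Prime 7 := by norm_num
    exact ⟨7, h7, by omega, by omega, by omega⟩
  obtain ⟨p, hp, h1, h2⟩ := Nat.exists_prime_lt_and_le_two_mul (l / 2) (by omega)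
  exact ⟨p, hp, by omega, by omega, by omega⟩

/-- **Alternating groups of degree at least 7.** -/
theorem alt_kill {n k l : ℕ} (hl : 7 ≤ l) (hk : 2 ≤ k) (hn0 : 0 < n)
    (hp : ∀ p : ℕ, p.Prime → 3 ≤ p → p ≤ l → p ^ k ∣ n.factorial)
    (h1 : k * (l - 1) ∈ D n ∨ 2 * (k * (l - 1)) ∈ D n)
    (h2 : k * (l * (l - 3) / 2) ∈ D n ∨ 2 * (k * (l * (l - 3) / 2)) ∈ D n) : False := by
  obtain ⟨p, hpp, hpl, hp2, hp5⟩ := exists_prime_half hl
  have h3 := le_of_pow_dvd hpp hn0 (hp p hpp (by omega) hpl)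
  have h7' := le_of_pow_dvd (p := 7) (by norm_num) hn0 (hp 7 (by norm_num) (by norm_num) hl)
  have hn : 13 ≤ n := by omega
  obtain ⟨b, hb⟩ : ∃ b, b = l * (l - 3) / 2 := ⟨_, rfl⟩
  have hb2 : 2 * b = l * (l - 3) := by
    rw [hb]
    apply Nat.mul_div_cancel'
    obtain ⟨t, rfl⟩ := Nat.exists_eq_add_of_le hl
    rw [show 7 + t - 3 = t + 4 by omega]
    rcases Nat.even_or_odd t with ⟨c, hc⟩ | ⟨c, hc⟩
    · exact Dvd.dvd.mul_left ⟨c + 2, by omega⟩ _
    · exact Dvd.dvd.mul_right ⟨c + 4, by omega⟩ _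
  rw [← hb] at h2
  obtain ⟨x, hx⟩ : ∃ x, x = k * (l - 1) := ⟨_, rfl⟩
  rw [← hx] at h1
  -- `k (l - 1) ≤ 2 (n - 1)`
  have h4 : x ≤ 2 * (n - 1) := by
    have h5 : (l - 1) * k ≤ 2 * ((p - 1) * k) := by
      rw [← mul_assoc]
      exact Nat.mul_le_mul_right k (by omega)
    rw [hx, mul_comm k]
    omega
  have h6 : 2 * (l - 1) ≤ x := by rw [hx]; exact Nat.mul_le_mul_right _ hk
  have hsz : 8 * (n - 1) < n * (n - 3) := by
    obtain ⟨t, rfl⟩ := Nat.exists_eq_add_of_le hn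
    rw [show 13 + t - 1 = t + 12 by omega, show 13 + t - 3 = t + 10 by omega]
    nlinarith
  have hna : n - 1 = x ∨ n - 1 = 2 * x := by
    rcases h1 with h1 | h1
    · rcases low_all hn h1 (by omega) with h | h <;> omega
    · rcases low_all hn h1 (by omega) with h | h <;> omega
  -- the second degree `y = k l (l - 3) / 2`
  obtain ⟨y, hy⟩ : ∃ y, y = k * b := ⟨_, rfl⟩
  rw [← hy] at h2
  have hy2 : 2 * y = k * (l * (l - 3)) := by rw [hy, ← hb2]; ring
  obtain ⟨t, rfl⟩ := Nat.exists_eq_add_of_le hl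
  have e1 : 7 + t - 1 = t + 6 := by omega
  have e3 : 7 + t - 3 = t + 4 := by omega
  rw [e1] at hx h6
  rw [e3] at hy2
  -- `2 x < y`, `4 y < n (n - 3)`
  have hlow2 : 2 * x < y := by
    have : 4 * x < 2 * y := by rw [hx, hy2]; nlinarith
    omega
  have hup : 4 * y < n * (n - 3) := by
    have hx1 : x + 1 ≤ n := by omega
    have h5 : (x + 1) * (x - 2) ≤ n * (n - 3) := Nat.mul_le_mul hx1 (by omega)
    obtain ⟨z, hz⟩ : ∃ z, x = z + 2 := ⟨x - 2, by omega⟩
    rw [hz, Nat.add_sub_cancel] at h5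
    have h7 : 2 * (t + 6) ≤ z + 2 := by omega
    -- `4 y = 2 k (t + 7) (t + 4) < 2 x (t + 5) ≤ x (x - 2)`
    have h8 : 4 * y + 4 * k = 2 * x * (t + 5) := by
      have : 4 * y = 2 * (2 * y) := by ring
      rw [this, hy2, hx]; ring
    have h9 : 2 * x * (t + 5) ≤ x * z := by
      have : 2 * x * (t + 5) = x * (2 * (t + 5)) := by ring
      rw [this]
      exact Nat.mul_le_mul_left x (by omega)
    rw [hz] at h8 h9
    nlinarith
  rcases h2 with h2 | h2
  · rcases low_all hn h2 (by omega) with h | h <;> omega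
  · rcases low_all hn h2 (by omega) with h | h <;> omega

theorem dvd_card_alt {l p : ℕ} (hp : p.Prime) (h3 : 3 ≤ p) (hl : 7 ≤ l) (hpl : p ≤ l) : p ∣ Nat.card (An l) := by
  have : Nontrivial (Fin l) := Fin.nontrivial_iff_two_le.2 (by omega)
  have h1 := two_mul_nat_card_alternatingGroup (α := Fin l)
  rw [Nat.card_perm, Nat.card_fin] at h1
  have h2 : p ∣ 2 * Nat.card (An l) := by
    rw [h1]
    exact (hp.dvd_factorial).2 hpl
  rcases hp.dvd_mul.1 h2 with h | h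
  · have := Nat.le_of_dvd (by norm_num) h
    omega
  · exact h

theorem row_alt {n k : ℕ} (hn : 5 ≤ n) (hk : 2 ≤ k) {S : Type u} [Group S] [Finite S] [IsSimpleGroup S]
    (hna : ¬ IsMulCommutative S) (H : Hyp n k S) {l : ℕ} (hl : 5 ≤ l) (e : S ≃* alternatingGroup (Fin l)) : False := by
  by_cases h5 : l = 5
  · subst h5
    have : Fact (Nat.Prime 5) := ⟨by norm_num⟩
    obtain ⟨f⟩ := Cfsg.Agent.S0253.psl_zmod5
    exact row_lie hn hk hna H (r := 5) (by norm_num) (Or.inl ⟨ZMod 5, inferInstance, inferInstance, inferInstance, 2, le_rfl,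
      fun _ => by rw [ZMod.card]; norm_num, ⟨e.trans f.symm⟩⟩)
  by_cases h6 : l = 6
  · subst h6
    exact row_lie hn hk hna H (r := 3) (by norm_num) (H679.isLie_six ⟨e⟩)
  have h7 : 7 ≤ l := by omega
  have hout : Nat.card (Out S) ≤ 2 := by
    rw [H55.OutGen.card_out_congr e, H489.card_out_alt hl h6]
  obtain ⟨k1, k2, -⟩ := H71.AN.a4_of (fun h _ h' _ h2 => H89.AN.a1_mem h h' h2) h7
  rw [D, ← H424.DegTools.charDegrees_congr e] at k1 k2
  refine alt_kill h7 hk (by omega) (fun p hp h3 hpl => H.pr p hp ?_) (H.two hout k1 (by omega)) (H.two hout k2 ?_)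
  · rw [Nat.card_congr e.toEquiv]
    exact dvd_card_alt hp h3 h7 hpl
  · obtain ⟨t, rfl⟩ := Nat.exists_eq_add_of_le h7
    rw [show 7 + t - 3 = t + 4 by omega]
    have h8 : 7 * 4 ≤ (7 + t) * (t + 4) := Nat.mul_le_mul (by omega) (by omega)
    omega

/-! ### The criterion for the sporadic groups -/

theorem spor_row {n k : ℕ} (hk : 2 ≤ k) (hn : 5 ≤ n) {S : Type u} [Group S] [Finite S]
    (hout : Nat.card (Out S) ≤ 2) (H : Hyp n k S) {p a b : ℕ} (hp : p.Prime) (h11 : 11 ≤ p) (hpS : p ∣ Nat.card S)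
    (ha : a ∈ charDegrees S) (hb : b ∈ charDegrees S) (ha1 : a ≠ 1) (hb1 : b ≠ 1)
    (hkill : 20 ≤ n → 2 ≤ k → (p - 1) * k ≤ n - 1 → (k * a ∈ D n ∨ 2 * (k * a) ∈ D n) →
      (k * b ∈ D n ∨ 2 * (k * b) ∈ D n) → False) : False := by
  have h3 := le_of_pow_dvd hp (by omega) (H.pr p hp hpS)
  have h4 : (p - 1) * 2 ≤ (p - 1) * k := Nat.mul_le_mul_left _ hk
  exact hkill (by omega) hk h3 (H.two hout ha ha1) (H.two hout hb hb1)

end Cfsg.Agent.H504.AN
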