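import Cfsg.Agent.H35.AN.A3
import Cfsg.Agent.H71.AN.Deg
import Cfsg.Agent.H89.AN.AOneTwo
import Cfsg.Agent.H835.AN.Deg
import Cfsg.Agent.H999.DS.Lev
import Cfsg.Agent.H424.DegTools

/-!
# Numerical exclusion for minimal normal subgroups with several factors (helper504)

* `le_of_pow_dvd` : `p ^ k ∣ n!` gives `(p - 1) k ≤ n - 1`;
* `low3` : small degrees of `A_n`;
* `okN`, `spor_kill` : two degrees `a < b` of the simple group.
-/

set_option autoImplicit false

namespace Cfsg.Agent.H504.AN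

open Cfsg Cfsg.Agent.H691.AN Cfsg.Agent.H704

theorem le_of_pow_dvd {p k n : ℕ} (hp : p.Prime) (hn : 0 < n) (h : p ^ k ∣ n.factorial) : (p - 1) * k ≤ n - 1 := by
  have : Fact p.Prime := ⟨hp⟩
  have h1 : k ≤ padicValNat p n.factorial := (padicValNat_dvd_iff_le (Nat.factorial_ne_zero n)).1 h
  have h2 := sub_one_mul_padicValNat_factorial (p := p) n
  have h3 : 0 < (p.digits n).sum := by
    by_contra hcon
    have h4 : (p.digits n).sum = 0 := by omega
    have h5 : Nat.ofDigits p (p.digits n) = n := Nat.ofDigits_digits p n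
    have h6 : ∀ x ∈ p.digits n, x = 0 := by
      intro x hx
      exact (List.sum_eq_zero_iff.1 h4) x hx
    have h7 : Nat.ofDigits p (p.digits n) = 0 := by
      generalize p.digits n = l at h6
      induction l with
      | nil => rfl
      | cons y l ih =>
        rw [Nat.ofDigits_cons, h6 y List.mem_cons_self, ih fun x hx => h6 x (List.mem_cons_of_mem _ hx)]
        simp
    omega
  have h8 := Nat.mul_le_mul_left (p - 1) h1
  omega

/-- the degrees of `A_n` divide `n!` -/
theorem dvd_factorial_of_mem {n d : ℕ} (h : d ∈ D n) : d ∣ n.factorial := by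
  have h1 := H424.DegTools.dvd_card h
  have h2 : Nat.card (An n) ∣ Nat.card (Equiv.Perm (Fin n)) := Subgroup.card_subgroup_dvd_card _
  rw [Nat.card_perm, Nat.card_fin] at h2
  exact h1.trans h2

theorem isDeg_or {n d : ℕ} (hn : 2 ≤ n) (h : d ∈ D n) : IsDeg n d ∨ IsDeg n (2 * d) := by
  obtain ⟨l, hl, h1 | h1⟩ := H89.AN.a2_part hn h
  · exact Or.inl ⟨l, hl, h1.2⟩
  · exact Or.inr ⟨l, hl, h1.2⟩

theorem low3 {n x : ℕ} (hn : 20 ≤ n) (hx : x ∈ D n) (h : 2 * x < n * (n - 3)) : x = 1 ∨ x = n - 1 := by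
  obtain ⟨t, rfl⟩ := Nat.exists_eq_add_of_le hn
  rcases H35.AN.a3_low hn hx with h1 | h1 | h1 | h1 | h1 | h1 | h1 | h1
  · exact Or.inl h1
  · exact Or.inr h1
  · omega
  · exfalso
    rw [show 20 + t - 3 = t + 17 by omega] at h
    rw [show 20 + t - 1 = t + 19 by omega, show 20 + t - 2 = t + 18 by omega] at h1
    nlinarith
  · exfalso
    rw [show 20 + t - 3 = t + 17 by omega] at h
    rw [show 20 + t - 1 = t + 19 by omega, show 20 + t - 5 = t + 15 by omega] at h1
    nlinarith
  · exfalso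
    rw [show 20 + t - 3 = t + 17 by omega] at h
    rw [show 20 + t - 2 = t + 18 by omega, show 20 + t - 4 = t + 16 by omega] at h1
    nlinarith
  · exfalso
    rw [show 20 + t - 3 = t + 17 by omega] at h
    rw [show 20 + t - 1 = t + 19 by omega, show 20 + t - 2 = t + 18 by omega, show 20 + t - 3 = t + 17 by omega] at h1
    nlinarith
  · exfalso
    rw [show 20 + t - 3 = t + 17 by omega] at h
    rw [show 20 + t - 1 = t + 19 by omega] at h1
    nlinarith

/-- the low degrees of `A_n` -/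
def low (n x : ℕ) : Bool :=
  Nat.beq x 1 || Nat.beq x (n - 1) || Nat.beq (2 * x) (n * (n - 3)) || Nat.beq (2 * x) ((n - 1) * (n - 2)) ||
    Nat.beq (6 * x) (n * (n - 1) * (n - 5)) || Nat.beq (3 * x) (n * (n - 2) * (n - 4)) ||
    Nat.beq (6 * x) ((n - 1) * (n - 2) * (n - 3))

/-- `x` can be a degree of `A_n` -/
def cand (lev : ℕ → ℕ → Bool) (n x : ℕ) : Bool := low n x || (Nat.blt ((n - 1) ^ 3) (2 * x) && lev n x)

/-- sound high level tests, for `s ≤ n` -/
def LevOK (s : ℕ) (lev : ℕ → ℕ → Bool) : Prop := ∀ n x : ℕ, s ≤ n → x ∈ D n → lev n x = true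

theorem cand_of_mem {s : ℕ} {lev : ℕ → ℕ → Bool} (hl : LevOK s lev) {n x : ℕ} (hn : 20 ≤ n) (hs : s ≤ n)
    (hx : x ∈ D n) : cand lev n x = true := by
  have h0 := hl n x hs hx
  unfold cand low
  simp only [Bool.or_eq_true, Bool.and_eq_true, Nat.beq_eq, Nat.blt_eq, h0, and_true]
  rcases H35.AN.a3_low hn hx with h1 | h1 | h1 | h1 | h1 | h1 | h1 | h1 <;> simp [h1]

/-- the test for one `n` -/
def okN (lev : ℕ → ℕ → Bool) (p a b n : ℕ) : Bool :=
  (Nat.blt (n - 1) (2 * a) && Nat.blt (12 * ((n - 1) / (p - 1) * a)) (n * (n - 1) * (n - 5)) &&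
    !(Nat.beq (n * (n - 3) % a) 0) && !(Nat.beq ((n - 1) * (n - 2) % a) 0)) ||
  (List.range ((n - 1) / (p - 1) + 1)).all fun k => Nat.blt k 2 ||
    !((cand lev n (k * a) || cand lev n (2 * (k * a))) && (cand lev n (k * b) || cand lev n (2 * (k * b))))

theorem ne_of_first {n x a M : ℕ} (hn : 20 ≤ n) (hx : x ∈ D n) (hax : a ∣ x) (h1 : n - 1 < x) (h2 : x ≤ M)
    (h3 : 6 * M < n * (n - 1) * (n - 5)) (h4 : n * (n - 3) % a ≠ 0) (h5 : (n - 1) * (n - 2) % a ≠ 0) : False := by
  obtain ⟨t, rfl⟩ := Nat.exists_eq_add_of_le hn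
  rcases H35.AN.a3_low hn hx with h | h | h | h | h | h | h | h
  · omega
  · omega
  · exact h4 (Nat.mod_eq_zero_of_dvd (h ▸ hax.mul_left 2))
  · exact h5 (Nat.mod_eq_zero_of_dvd (h ▸ hax.mul_left 2))
  · omega
  · rw [show 20 + t - 1 = t + 19 by omega, show 20 + t - 5 = t + 15 by omega] at h3
    rw [show 20 + t - 2 = t + 18 by omega, show 20 + t - 4 = t + 16 by omega] at h
    nlinarith
  · rw [show 20 + t - 1 = t + 19 by omega, show 20 + t - 5 = t + 15 by omega] at h3
    rw [show 20 + t - 1 = t + 19 by omega, show 20 + t - 2 = t + 18 by omega, show 20 + t - 3 = t + 17 by omega] at h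
    nlinarith
  · rw [show 20 + t - 1 = t + 19 by omega, show 20 + t - 5 = t + 15 by omega] at h3
    rw [show 20 + t - 1 = t + 19 by omega] at h
    nlinarith [sq_nonneg t, mul_nonneg (Nat.zero_le t) (Nat.zero_le t)]

theorem okN_false {s : ℕ} {lev : ℕ → ℕ → Bool} (hl : LevOK s lev) {p a b n k : ℕ} (h : okN lev p a b n = true)
    (hp : 2 ≤ p) (ha : 2 ≤ a) (hn : 20 ≤ n) (hs : s ≤ n) (hk : 2 ≤ k) (hpk : (p - 1) * k ≤ n - 1)
    (h1 : k * a ∈ D n ∨ 2 * (k * a) ∈ D n) (h2 : k * b ∈ D n ∨ 2 * (k * b) ∈ D n) : False := by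
  have hK : k ≤ (n - 1) / (p - 1) := by
    rw [Nat.le_div_iff_mul_le (by omega), mul_comm]
    exact hpk
  unfold okN at h
  rw [Bool.or_eq_true] at h
  rcases h with h | h
  · simp only [Bool.and_eq_true, Nat.blt_eq, Bool.not_eq_true'] at h
    obtain ⟨⟨⟨h3, h4⟩, h5⟩, h6⟩ := h
    replace h5 := Nat.ne_of_beq_eq_false h5
    replace h6 := Nat.ne_of_beq_eq_false h6
    have h7 : k * a ≤ (n - 1) / (p - 1) * a := Nat.mul_le_mul_right a hK
    have h8 : 2 * a ≤ k * a := Nat.mul_le_mul_right a hk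
    rcases h1 with h1 | h1
    · exact ne_of_first (M := 2 * ((n - 1) / (p - 1) * a)) hn h1 (Dvd.intro_left k rfl) (by omega) (by omega)
        (by omega) h5 h6
    · exact ne_of_first (M := 2 * ((n - 1) / (p - 1) * a)) hn h1 (Dvd.dvd.mul_left (Dvd.intro_left k rfl) 2)
        (by omega) (by omega) (by omega) h5 h6
  · rw [List.all_eq_true] at h
    have h3 := h k (by rw [List.mem_range]; omega)
    have h4 : (cand lev n (k * a) || cand lev n (2 * (k * a))) = true := by
      rw [Bool.or_eq_true]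
      exact h1.imp (cand_of_mem hl hn hs) (cand_of_mem hl hn hs)
    have h5 : (cand lev n (k * b) || cand lev n (2 * (k * b))) = true := by
      rw [Bool.or_eq_true]
      exact h2.imp (cand_of_mem hl hn hs) (cand_of_mem hl hn hs)
    rw [h4, h5] at h3
    simp only [Bool.and_true, Bool.not_true, Bool.or_false, Nat.blt_eq] at h3
    omega

/-- **Two degrees.** -/
theorem spor_kill {s N0 : ℕ} {lev : ℕ → ℕ → Bool} (hl : LevOK s lev) {p a b : ℕ} (hp : 2 ≤ p) (ha : 2 ≤ a)
    (hab : a < b) (hb2 : b ≠ 2 * a) (hab4 : 4 * b + a + 1 < 2 * (a * a) ∨ 4 * b ≤ (p - 1) * (N0 - 3))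
    (hN0 : 4 * a ≤ (p - 1) * (N0 - 3))
    (hsp : s ≤ 2 * p - 1 ∨ s = 20)
    (hchk : ((List.range (N0 - s)).all fun i => okN lev p a b (s + i)) = true)
    {n k : ℕ} (hn : 20 ≤ n) (hk : 2 ≤ k) (hpk : (p - 1) * k ≤ n - 1)
    (h1 : k * a ∈ D n ∨ 2 * (k * a) ∈ D n) (h2 : k * b ∈ D n ∨ 2 * (k * b) ∈ D n) : False := by
  have hsn : s ≤ n := by
    have : (p - 1) * 2 ≤ (p - 1) * k := Nat.mul_le_mul_left _ hk
    omega
  rcases Nat.lt_or_ge n N0 with hn0 | hn0
  · rw [List.all_eq_true] at hchk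
    have h3 := hchk (n - s) (by rw [List.mem_range]; omega)
    beta_reduce at h3
    rw [show s + (n - s) = n by omega] at h3
    exact okN_false hl h3 hp ha hn hsn hk hpk h1 h2
  · -- large `n`
    have hgen : ∀ x : ℕ, 4 * x ≤ (p - 1) * (N0 - 3) → 4 * (k * x) < n * (n - 3) := by
      intro a hN0
      obtain ⟨q, rfl⟩ : ∃ q, p = q + 1 := ⟨p - 1, by omega⟩
      rw [Nat.add_sub_cancel] at hN0 hpk
      have hq : 0 < q := by omega
      have h3 : q * (N0 - 3) ≤ q * (n - 3) := Nat.mul_le_mul_left q (by omega)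
      have h4 : 4 * a * (q * k) ≤ q * (n - 3) * (n - 1) := Nat.mul_le_mul (hN0.trans h3) hpk
      have h5 : q * (n - 3) * (n - 1) < q * (n - 3) * n := by
        apply Nat.mul_lt_mul_of_pos_left (by omega)
        exact Nat.mul_pos hq (by omega)
      have h6 : q * (4 * (k * a)) < q * (n * (n - 3)) := by
        calc q * (4 * (k * a)) = 4 * a * (q * k) := by ring
          _ ≤ q * (n - 3) * (n - 1) := h4
          _ < q * (n - 3) * n := h5
          _ = q * (n * (n - 3)) := by ring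
      exact Nat.lt_of_mul_lt_mul_left h6
    have hbig := hgen a hN0
    have h8 : 2 * a ≤ k * a := Nat.mul_le_mul_right a hk
    have h9 : 2 * b ≤ k * b := Nat.mul_le_mul_right b hk
    have hna : n - 1 = k * a ∨ n - 1 = 2 * (k * a) := by
      rcases h1 with h1 | h1
      · rcases low3 hn h1 (by omega) with h | h <;> omega
      · rcases low3 hn h1 (by omega) with h | h <;> omega
    have hkb : 4 * (k * b) < n * (n - 3) := by
      rcases hab4 with hab4 | hab4
      swap
      · exact hgen b hab4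
      have h3 : k * a + 1 ≤ n := by omega
      obtain ⟨t, ht⟩ : ∃ t, k * a = t + 2 := ⟨k * a - 2, by omega⟩
      have h4 : (t + 3) * t ≤ n * (n - 3) := Nat.mul_le_mul (by omega) (by omega)
      have h5 : k * (4 * b + a + 1) < k * (k * (a * a)) := by
        apply Nat.mul_lt_mul_of_pos_left _ (by omega)
        exact hab4.trans_le (Nat.mul_le_mul_right _ hk)
      have h6 : k * (k * (a * a)) = (t + 2) * (t + 2) := by rw [← ht]; ring
      have h7 : k * (4 * b + a + 1) = 4 * (k * b) + (t + 2) + k := by rw [← ht]; ring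
      nlinarith
    have hkpos : 0 < k := by omega
    have hnb : n - 1 = k * b ∨ n - 1 = 2 * (k * b) := by
      rcases h2 with h2 | h2
      · rcases low3 hn h2 (by omega) with h | h <;> omega
      · rcases low3 hn h2 (by omega) with h | h <;> omega
    have hlt : k * a < k * b := Nat.mul_lt_mul_of_pos_left hab hkpos
    rcases hna with h3 | h3 <;> rcases hnb with h4 | h4
    · omega
    · omega
    · apply hb2
      apply Nat.eq_of_mul_eq_mul_left hkpos
      have : k * (2 * a) = 2 * (k * a) := by ring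
      omega
    · omega

theorem levOK_true (s : ℕ) : LevOK s (fun _ _ => true) := fun _ _ _ _ => rfl

/-- the level test -/
def levT (K B : ℕ) (n x : ℕ) : Bool :=
  Nat.blt B (2 * x) || !(H999.DS.levChk K n x && H999.DS.levChk K n (2 * x))

theorem levOK_levT {K B s : ℕ} (hLB : ∀ n, s ≤ n → H999.DS.LB n K B) (h2 : 2 * K ≤ s) (hs : 2 ≤ s) :
    LevOK s (levT K B) := by
  intro n x hn hx
  unfold levT
  rw [Bool.or_eq_true, Nat.blt_eq]
  by_cases hB : B < 2 * x
  · exact Or.inl hB
  · right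
    rw [Bool.not_eq_true', Bool.and_eq_false_iff]
    by_contra hcon
    push Not at hcon
    obtain ⟨h3, h4⟩ := hcon
    rw [Bool.ne_false_iff] at h3 h4
    rcases isDeg_or (by omega) hx with h5 | h5
    · exact H999.DS.not_isDeg (hLB n hn) (by omega) (by omega) (by omega) h3 h5
    · exact H999.DS.not_isDeg (hLB n hn) (by omega) (by omega) (by omega) h4 h5

end Cfsg.Agent.H504.AN
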