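import Cfsg.Agent.H504.AN.Num

/-!
# The numerical checks for the sporadic groups (helper504)
-/

set_option autoImplicit false
set_option maxRecDepth 100000

namespace Cfsg.Agent.H504.AN

open Cfsg Cfsg.Agent.H691.AN Cfsg.Agent.H704

theorem chk_m11 : ((List.range (21 - 21)).all fun i => okN (fun _ _ => true) 11 10 45 (21 + i)) = true := by
  decide +kernel

theorem kill_m11 {n k : ℕ} (hn : 20 ≤ n) (hk : 2 ≤ k) (hpk : (11 - 1) * k ≤ n - 1)
    (h1 : k * 10 ∈ D n ∨ 2 * (k * 10) ∈ D n) (h2 : k * 45 ∈ D n ∨ 2 * (k * 45) ∈ D n) : False :=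
  spor_kill (levOK_true 21) (by norm_num) (by norm_num) (by norm_num) (by norm_num) (Or.inl (by norm_num))
    (by norm_num) (Or.inl (by norm_num)) chk_m11 hn hk hpk h1 h2

theorem chk_m12 : ((List.range (21 - 21)).all fun i => okN (fun _ _ => true) 11 16 45 (21 + i)) = true := by
  decide +kernel

theorem kill_m12 {n k : ℕ} (hn : 20 ≤ n) (hk : 2 ≤ k) (hpk : (11 - 1) * k ≤ n - 1)
    (h1 : k * 16 ∈ D n ∨ 2 * (k * 16) ∈ D n) (h2 : k * 45 ∈ D n ∨ 2 * (k * 45) ∈ D n) : False :=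
  spor_kill (levOK_true 21) (by norm_num) (by norm_num) (by norm_num) (by norm_num) (Or.inl (by norm_num))
    (by norm_num) (Or.inl (by norm_num)) chk_m12 hn hk hpk h1 h2

theorem chk_m22 : ((List.range (21 - 21)).all fun i => okN (fun _ _ => true) 11 21 45 (21 + i)) = true := by
  decide +kernel

theorem kill_m22 {n k : ℕ} (hn : 20 ≤ n) (hk : 2 ≤ k) (hpk : (11 - 1) * k ≤ n - 1)
    (h1 : k * 21 ∈ D n ∨ 2 * (k * 21) ∈ D n) (h2 : k * 45 ∈ D n ∨ 2 * (k * 45) ∈ D n) : False :=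
  spor_kill (levOK_true 21) (by norm_num) (by norm_num) (by norm_num) (by norm_num) (Or.inl (by norm_num))
    (by norm_num) (Or.inl (by norm_num)) chk_m22 hn hk hpk h1 h2

theorem chk_m23 : ((List.range (45 - 45)).all fun i => okN (fun _ _ => true) 23 45 230 (45 + i)) = true := by
  decide +kernel

theorem kill_m23 {n k : ℕ} (hn : 20 ≤ n) (hk : 2 ≤ k) (hpk : (23 - 1) * k ≤ n - 1)
    (h1 : k * 45 ∈ D n ∨ 2 * (k * 45) ∈ D n) (h2 : k * 230 ∈ D n ∨ 2 * (k * 230) ∈ D n) : False :=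
  spor_kill (levOK_true 45) (by norm_num) (by norm_num) (by norm_num) (by norm_num) (Or.inl (by norm_num))
    (by norm_num) (Or.inl (by norm_num)) chk_m23 hn hk hpk h1 h2

theorem chk_m24 : ((List.range (192 - 45)).all fun i => okN (fun _ _ => true) 23 1035 1771 (45 + i)) = true := by
  decide +kernel

theorem kill_m24 {n k : ℕ} (hn : 20 ≤ n) (hk : 2 ≤ k) (hpk : (23 - 1) * k ≤ n - 1)
    (h1 : k * 1035 ∈ D n ∨ 2 * (k * 1035) ∈ D n) (h2 : k * 1771 ∈ D n ∨ 2 * (k * 1771) ∈ D n) : False :=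
  spor_kill (levOK_true 45) (by norm_num) (by norm_num) (by norm_num) (by norm_num) (Or.inl (by norm_num))
    (by norm_num) (Or.inl (by norm_num)) chk_m24 hn hk hpk h1 h2

theorem chk_j1 : ((List.range (37 - 37)).all fun i => okN (fun _ _ => true) 19 56 76 (37 + i)) = true := by
  decide +kernel

theorem kill_j1 {n k : ℕ} (hn : 20 ≤ n) (hk : 2 ≤ k) (hpk : (19 - 1) * k ≤ n - 1)
    (h1 : k * 56 ∈ D n ∨ 2 * (k * 56) ∈ D n) (h2 : k * 76 ∈ D n ∨ 2 * (k * 76) ∈ D n) : False :=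
  spor_kill (levOK_true 37) (by norm_num) (by norm_num) (by norm_num) (by norm_num) (Or.inl (by norm_num))
    (by norm_num) (Or.inl (by norm_num)) chk_j1 hn hk hpk h1 h2

theorem chk_j2 : ((List.range (27 - 20)).all fun i => okN (fun _ _ => true) 7 36 63 (20 + i)) = true := by
  decide +kernel

theorem kill_j2 {n k : ℕ} (hn : 20 ≤ n) (hk : 2 ≤ k) (hpk : (7 - 1) * k ≤ n - 1)
    (h1 : k * 36 ∈ D n ∨ 2 * (k * 36) ∈ D n) (h2 : k * 63 ∈ D n ∨ 2 * (k * 63) ∈ D n) : False :=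
  spor_kill (levOK_true 20) (by norm_num) (by norm_num) (by norm_num) (by norm_num) (Or.inl (by norm_num))
    (by norm_num) (Or.inr rfl) chk_j2 hn hk hpk h1 h2

theorem chk_j3 : ((List.range (75 - 37)).all fun i => okN (fun _ _ => true) 19 324 816 (37 + i)) = true := by
  decide +kernel

theorem kill_j3 {n k : ℕ} (hn : 20 ≤ n) (hk : 2 ≤ k) (hpk : (19 - 1) * k ≤ n - 1)
    (h1 : k * 324 ∈ D n ∨ 2 * (k * 324) ∈ D n) (h2 : k * 816 ∈ D n ∨ 2 * (k * 816) ∈ D n) : False :=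
  spor_kill (levOK_true 37) (by norm_num) (by norm_num) (by norm_num) (by norm_num) (Or.inl (by norm_num))
    (by norm_num) (Or.inl (by norm_num)) chk_j3 hn hk hpk h1 h2

theorem chk_hs : ((List.range (21 - 21)).all fun i => okN (fun _ _ => true) 11 22 77 (21 + i)) = true := by
  decide +kernel

theorem kill_hs {n k : ℕ} (hn : 20 ≤ n) (hk : 2 ≤ k) (hpk : (11 - 1) * k ≤ n - 1)
    (h1 : k * 22 ∈ D n ∨ 2 * (k * 22) ∈ D n) (h2 : k * 77 ∈ D n ∨ 2 * (k * 77) ∈ D n) : False :=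
  spor_kill (levOK_true 21) (by norm_num) (by norm_num) (by norm_num) (by norm_num) (Or.inl (by norm_num))
    (by norm_num) (Or.inl (by norm_num)) chk_hs hn hk hpk h1 h2

theorem chk_mcl : ((List.range (104 - 21)).all fun i => okN (fun _ _ => true) 11 22 252 (21 + i)) = true := by
  decide +kernel

theorem kill_mcl {n k : ℕ} (hn : 20 ≤ n) (hk : 2 ≤ k) (hpk : (11 - 1) * k ≤ n - 1)
    (h1 : k * 22 ∈ D n ∨ 2 * (k * 22) ∈ D n) (h2 : k * 252 ∈ D n ∨ 2 * (k * 252) ∈ D n) : False :=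
  spor_kill (levOK_true 21) (by norm_num) (by norm_num) (by norm_num) (by norm_num) (Or.inr (by norm_num))
    (by norm_num) (Or.inl (by norm_num)) chk_mcl hn hk hpk h1 h2

theorem chk_suz : ((List.range (263 - 25)).all fun i => okN (fun _ _ => true) 13 780 1001 (25 + i)) = true := by
  decide +kernel

theorem kill_suz {n k : ℕ} (hn : 20 ≤ n) (hk : 2 ≤ k) (hpk : (13 - 1) * k ≤ n - 1)
    (h1 : k * 780 ∈ D n ∨ 2 * (k * 780) ∈ D n) (h2 : k * 1001 ∈ D n ∨ 2 * (k * 1001) ∈ D n) : False :=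
  spor_kill (levOK_true 25) (by norm_num) (by norm_num) (by norm_num) (by norm_num) (Or.inl (by norm_num))
    (by norm_num) (Or.inl (by norm_num)) chk_suz hn hk hpk h1 h2

theorem chk_fi22 : ((List.range (146 - 25)).all fun i => okN (fun _ _ => true) 13 429 3080 (25 + i)) = true := by
  decide +kernel

theorem kill_fi22 {n k : ℕ} (hn : 20 ≤ n) (hk : 2 ≤ k) (hpk : (13 - 1) * k ≤ n - 1)
    (h1 : k * 429 ∈ D n ∨ 2 * (k * 429) ∈ D n) (h2 : k * 3080 ∈ D n ∨ 2 * (k * 3080) ∈ D n) : False :=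
  spor_kill (levOK_true 25) (by norm_num) (by norm_num) (by norm_num) (by norm_num) (Or.inl (by norm_num))
    (by norm_num) (Or.inl (by norm_num)) chk_fi22 hn hk hpk h1 h2

theorem chk_he : ((List.range (173 - 33)).all fun i => okN (fun _ _ => true) 17 680 1275 (33 + i)) = true := by
  decide +kernel

theorem kill_he {n k : ℕ} (hn : 20 ≤ n) (hk : 2 ≤ k) (hpk : (17 - 1) * k ≤ n - 1)
    (h1 : k * 680 ∈ D n ∨ 2 * (k * 680) ∈ D n) (h2 : k * 1275 ∈ D n ∨ 2 * (k * 1275) ∈ D n) : False :=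
  spor_kill (levOK_true 33) (by norm_num) (by norm_num) (by norm_num) (by norm_num) (Or.inl (by norm_num))
    (by norm_num) (Or.inl (by norm_num)) chk_he hn hk hpk h1 h2

theorem chk_ru : ((List.range (115 - 57)).all fun i => okN (fun _ _ => true) 29 783 3276 (57 + i)) = true := by
  decide +kernel

theorem kill_ru {n k : ℕ} (hn : 20 ≤ n) (hk : 2 ≤ k) (hpk : (29 - 1) * k ≤ n - 1)
    (h1 : k * 783 ∈ D n ∨ 2 * (k * 783) ∈ D n) (h2 : k * 3276 ∈ D n ∨ 2 * (k * 3276) ∈ D n) : False :=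
  spor_kill (levOK_true 57) (by norm_num) (by norm_num) (by norm_num) (by norm_num) (Or.inl (by norm_num))
    (by norm_num) (Or.inl (by norm_num)) chk_ru hn hk hpk h1 h2

theorem chk_on : ((List.range (1463 - 61)).all fun i => okN (fun _ _ => true) 31 10944 32395 (61 + i)) = true := by
  decide +kernel

theorem kill_on {n k : ℕ} (hn : 20 ≤ n) (hk : 2 ≤ k) (hpk : (31 - 1) * k ≤ n - 1)
    (h1 : k * 10944 ∈ D n ∨ 2 * (k * 10944) ∈ D n) (h2 : k * 32395 ∈ D n ∨ 2 * (k * 32395) ∈ D n) : False :=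
  spor_kill (levOK_true 61) (by norm_num) (by norm_num) (by norm_num) (by norm_num) (Or.inl (by norm_num))
    (by norm_num) (Or.inl (by norm_num)) chk_on hn hk hpk h1 h2

theorem chk_ly : ((List.range (2773 - 133)).all fun i => okN (fun _ _ => true) 67 45694 1534500 (133 + i)) = true := by
  decide +kernel

theorem kill_ly {n k : ℕ} (hn : 20 ≤ n) (hk : 2 ≤ k) (hpk : (67 - 1) * k ≤ n - 1)
    (h1 : k * 45694 ∈ D n ∨ 2 * (k * 45694) ∈ D n) (h2 : k * 1534500 ∈ D n ∨ 2 * (k * 1534500) ∈ D n) : False :=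
  spor_kill (levOK_true 133) (by norm_num) (by norm_num) (by norm_num) (by norm_num) (Or.inl (by norm_num))
    (by norm_num) (Or.inl (by norm_num)) chk_ly hn hk hpk h1 h2

theorem chk_co1 : ((List.range (54 - 45)).all fun i => okN (fun _ _ => true) 23 276 299 (45 + i)) = true := by
  decide +kernel

theorem kill_co1 {n k : ℕ} (hn : 20 ≤ n) (hk : 2 ≤ k) (hpk : (23 - 1) * k ≤ n - 1)
    (h1 : k * 276 ∈ D n ∨ 2 * (k * 276) ∈ D n) (h2 : k * 299 ∈ D n ∨ 2 * (k * 299) ∈ D n) : False :=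
  spor_kill (levOK_true 45) (by norm_num) (by norm_num) (by norm_num) (by norm_num) (Or.inl (by norm_num))
    (by norm_num) (Or.inl (by norm_num)) chk_co1 hn hk hpk h1 h2

theorem chk_co2 : ((List.range (53 - 45)).all fun i => okN (fun _ _ => true) 23 23 275 (45 + i)) = true := by
  decide +kernel

theorem kill_co2 {n k : ℕ} (hn : 20 ≤ n) (hk : 2 ≤ k) (hpk : (23 - 1) * k ≤ n - 1)
    (h1 : k * 23 ∈ D n ∨ 2 * (k * 23) ∈ D n) (h2 : k * 275 ∈ D n ∨ 2 * (k * 275) ∈ D n) : False :=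
  spor_kill (levOK_true 45) (by norm_num) (by norm_num) (by norm_num) (by norm_num) (Or.inr (by norm_num))
    (by norm_num) (Or.inl (by norm_num)) chk_co2 hn hk hpk h1 h2

theorem chk_co3 : ((List.range (53 - 45)).all fun i => okN (fun _ _ => true) 23 23 275 (45 + i)) = true := by
  decide +kernel

theorem kill_co3 {n k : ℕ} (hn : 20 ≤ n) (hk : 2 ≤ k) (hpk : (23 - 1) * k ≤ n - 1)
    (h1 : k * 23 ∈ D n ∨ 2 * (k * 23) ∈ D n) (h2 : k * 275 ∈ D n ∨ 2 * (k * 275) ∈ D n) : False :=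
  spor_kill (levOK_true 45) (by norm_num) (by norm_num) (by norm_num) (by norm_num) (Or.inr (by norm_num))
    (by norm_num) (Or.inl (by norm_num)) chk_co3 hn hk hpk h1 h2

theorem chk_bm : ((List.range (384 - 93)).all fun i => okN (fun _ _ => true) 47 4371 96255 (93 + i)) = true := by
  decide +kernel

theorem kill_bm {n k : ℕ} (hn : 20 ≤ n) (hk : 2 ≤ k) (hpk : (47 - 1) * k ≤ n - 1)
    (h1 : k * 4371 ∈ D n ∨ 2 * (k * 4371) ∈ D n) (h2 : k * 96255 ∈ D n ∨ 2 * (k * 96255) ∈ D n) : False :=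
  spor_kill (levOK_true 93) (by norm_num) (by norm_num) (by norm_num) (by norm_num) (Or.inl (by norm_num))
    (by norm_num) (Or.inl (by norm_num)) chk_bm hn hk hpk h1 h2

theorem chk_mm : ((List.range (11254 - 141)).all fun i => okN (fun _ _ => true) 71 196883 842609326 (141 + i)) = true := by
  decide +kernel

theorem kill_mm {n k : ℕ} (hn : 20 ≤ n) (hk : 2 ≤ k) (hpk : (71 - 1) * k ≤ n - 1)
    (h1 : k * 196883 ∈ D n ∨ 2 * (k * 196883) ∈ D n) (h2 : k * 842609326 ∈ D n ∨ 2 * (k * 842609326) ∈ D n) : False :=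
  spor_kill (levOK_true 141) (by norm_num) (by norm_num) (by norm_num) (by norm_num) (Or.inl (by norm_num))
    (by norm_num) (Or.inl (by norm_num)) chk_mm hn hk hpk h1 h2

theorem chk_tits : ((List.range (29 - 25)).all fun i => okN (fun _ _ => true) 13 78 650 (25 + i)) = true := by
  decide +kernel

theorem kill_tits {n k : ℕ} (hn : 20 ≤ n) (hk : 2 ≤ k) (hpk : (13 - 1) * k ≤ n - 1)
    (h1 : k * 78 ∈ D n ∨ 2 * (k * 78) ∈ D n) (h2 : k * 650 ∈ D n ∨ 2 * (k * 650) ∈ D n) : False :=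
  spor_kill (levOK_true 25) (by norm_num) (by norm_num) (by norm_num) (by norm_num) (Or.inl (by norm_num))
    (by norm_num) (Or.inl (by norm_num)) chk_tits hn hk hpk h1 h2

end Cfsg.Agent.H504.AN
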