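import Cfsg.Agent.H504.AN.Num
import Cfsg.Agent.H704.DS.LBHigh

/-!
# The numerical check for `J₄` (helper504)
-/

set_option autoImplicit false
set_option maxRecDepth 100000

namespace Cfsg.Agent.H504.AN

open Cfsg Cfsg.Agent.H691.AN Cfsg.Agent.H704

theorem lb85 {n : ℕ} (hn : 85 ≤ n) : H999.DS.LB n 4 29000000 := by
  intro l d h1 h2 h3 h4 h5
  have h6 := H704.DS.lb_high (K := 5) (m := 85) (n := n) (B := 29000001) (by norm_num) (by norm_num) hn
    (by decide +kernel) l d h1 h2 h3 (by omega) (by omega)
  omega

theorem lev4 : LevOK 85 (levT 4 29000000) :=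
  levOK_levT (fun _ hn => lb85 hn) (by norm_num) (by norm_num)

theorem cj_use {a m : ℕ}
    (h : ((List.range m).all fun i => okN (levT 4 29000000) 43 889111 1776888 (a + i)) = true) {x : ℕ} (h1 : a ≤ x)
    (h2 : x < a + m) : okN (levT 4 29000000) 43 889111 1776888 x = true := by
  rw [List.all_eq_true] at h
  have h3 := h (x - a) (List.mem_range.2 (by omega))
  rwa [show a + (x - a) = x by omega] at h3

theorem cj_0 : ((List.range 7050).all fun i => okN (levT 4 29000000) 43 889111 1776888 (85 + i)) = true := by
  decide +kernel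

theorem cj_1 : ((List.range 7050).all fun i => okN (levT 4 29000000) 43 889111 1776888 (7135 + i)) = true := by
  decide +kernel

theorem cj_2 : ((List.range 7050).all fun i => okN (levT 4 29000000) 43 889111 1776888 (14185 + i)) = true := by
  decide +kernel

theorem cj_3 : ((List.range 7050).all fun i => okN (levT 4 29000000) 43 889111 1776888 (21235 + i)) = true := by
  decide +kernel

theorem cj_4 : ((List.range 7050).all fun i => okN (levT 4 29000000) 43 889111 1776888 (28285 + i)) = true := by
  decide +kernel

theorem cj_5 : ((List.range 7050).all fun i => okN (levT 4 29000000) 43 889111 1776888 (35335 + i)) = true := by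
  decide +kernel

theorem cj_6 : ((List.range 7050).all fun i => okN (levT 4 29000000) 43 889111 1776888 (42385 + i)) = true := by
  decide +kernel

theorem cj_7 : ((List.range 7050).all fun i => okN (levT 4 29000000) 43 889111 1776888 (49435 + i)) = true := by
  decide +kernel

theorem cj_8 : ((List.range 7050).all fun i => okN (levT 4 29000000) 43 889111 1776888 (56485 + i)) = true := by
  decide +kernel

theorem cj_9 : ((List.range 7050).all fun i => okN (levT 4 29000000) 43 889111 1776888 (63535 + i)) = true := by
  decide +kernel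

theorem cj_10 : ((List.range 7050).all fun i => okN (levT 4 29000000) 43 889111 1776888 (70585 + i)) = true := by
  decide +kernel

theorem cj_11 : ((List.range 7046).all fun i => okN (levT 4 29000000) 43 889111 1776888 (77635 + i)) = true := by
  decide +kernel

theorem chk_j4 : ((List.range (84681 - 85)).all fun i => okN (levT 4 29000000) 43 889111 1776888 (85 + i)) = true := by
  rw [List.all_eq_true]
  intro i hi
  rw [List.mem_range] at hi
  rcases Nat.lt_or_ge (85 + i) 7135 with h | h0
  · exact cj_use cj_0 (by omega) (by omega)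
  rcases Nat.lt_or_ge (85 + i) 14185 with h | h1
  · exact cj_use cj_1 (by omega) (by omega)
  rcases Nat.lt_or_ge (85 + i) 21235 with h | h2
  · exact cj_use cj_2 (by omega) (by omega)
  rcases Nat.lt_or_ge (85 + i) 28285 with h | h3
  · exact cj_use cj_3 (by omega) (by omega)
  rcases Nat.lt_or_ge (85 + i) 35335 with h | h4
  · exact cj_use cj_4 (by omega) (by omega)
  rcases Nat.lt_or_ge (85 + i) 42385 with h | h5
  · exact cj_use cj_5 (by omega) (by omega)
  rcases Nat.lt_or_ge (85 + i) 49435 with h | h6
  · exact cj_use cj_6 (by omega) (by omega)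
  rcases Nat.lt_or_ge (85 + i) 56485 with h | h7
  · exact cj_use cj_7 (by omega) (by omega)
  rcases Nat.lt_or_ge (85 + i) 63535 with h | h8
  · exact cj_use cj_8 (by omega) (by omega)
  rcases Nat.lt_or_ge (85 + i) 70585 with h | h9
  · exact cj_use cj_9 (by omega) (by omega)
  rcases Nat.lt_or_ge (85 + i) 77635 with h | h10
  · exact cj_use cj_10 (by omega) (by omega)
  exact cj_use cj_11 (by omega) (by omega)

theorem kill_j4 {n k : ℕ} (hn : 20 ≤ n) (hk : 2 ≤ k) (hpk : (43 - 1) * k ≤ n - 1)
    (h1 : k * 889111 ∈ D n ∨ 2 * (k * 889111) ∈ D n) (h2 : k * 1776888 ∈ D n ∨ 2 * (k * 1776888) ∈ D n) : False :=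
  spor_kill (s := 85) lev4 (by norm_num) (by norm_num) (by norm_num) (by norm_num) (Or.inl (by norm_num))
    (by norm_num) (Or.inl (by norm_num)) chk_j4 hn hk hpk h1 h2

end Cfsg.Agent.H504.AN
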