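import Cfsg.Agent.H504.AN.Num

/-!
# The numerical checks for the sporadic groups, with level tests (helper504)
-/

set_option autoImplicit false
set_option maxRecDepth 100000

namespace Cfsg.Agent.H504.AN

open Cfsg Cfsg.Agent.H691.AN Cfsg.Agent.H704

theorem lev7 {s : ℕ} (hs : 29 ≤ s) : LevOK s (levT 7 2731364) :=
  levOK_levT (fun _ hn => H999.DS.lb_of_le (by norm_num) H999.DS.lb29' (hs.trans hn)) (by omega) (by omega)

theorem chk_th : ((List.range (4120 - 61)).all fun i => okN (levT 7 2731364) 31 30875 61256 (61 + i)) = true := by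
  decide +kernel

theorem kill_th {n k : ℕ} (hn : 20 ≤ n) (hk : 2 ≤ k) (hpk : (31 - 1) * k ≤ n - 1)
    (h1 : k * 30875 ∈ D n ∨ 2 * (k * 30875) ∈ D n) (h2 : k * 61256 ∈ D n ∨ 2 * (k * 61256) ∈ D n) : False :=
  spor_kill (s := 61) (lev7 (by norm_num)) (by norm_num) (by norm_num) (by norm_num) (by norm_num) (Or.inl (by norm_num))
    (by norm_num) (Or.inl (by norm_num)) chk_th hn hk hpk h1 h2

theorem chk_fi23 : ((List.range (146 - 45)).all fun i => okN (levT 7 2731364) 23 782 30888 (45 + i)) = true := by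
  decide +kernel

theorem kill_fi23 {n k : ℕ} (hn : 20 ≤ n) (hk : 2 ≤ k) (hpk : (23 - 1) * k ≤ n - 1)
    (h1 : k * 782 ∈ D n ∨ 2 * (k * 782) ∈ D n) (h2 : k * 30888 ∈ D n ∨ 2 * (k * 30888) ∈ D n) : False :=
  spor_kill (s := 45) (lev7 (by norm_num)) (by norm_num) (by norm_num) (by norm_num) (by norm_num) (Or.inl (by norm_num))
    (by norm_num) (Or.inl (by norm_num)) chk_fi23 hn hk hpk h1 h2

theorem chk_fi24 : ((List.range (8214 - 57)).all fun i => okN (levT 7 2731364) 29 57477 249458 (57 + i)) = true := by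
  decide +kernel

theorem kill_fi24 {n k : ℕ} (hn : 20 ≤ n) (hk : 2 ≤ k) (hpk : (29 - 1) * k ≤ n - 1)
    (h1 : k * 57477 ∈ D n ∨ 2 * (k * 57477) ∈ D n) (h2 : k * 249458 ∈ D n ∨ 2 * (k * 249458) ∈ D n) : False :=
  spor_kill (s := 57) (lev7 (by norm_num)) (by norm_num) (by norm_num) (by norm_num) (by norm_num) (Or.inl (by norm_num))
    (by norm_num) (Or.inl (by norm_num)) chk_fi24 hn hk hpk h1 h2

theorem chk_hn : ((List.range (1983 - 37)).all fun i => okN (levT 7 2731364) 19 8910 365750 (37 + i)) = true := by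
  decide +kernel

theorem kill_hn {n k : ℕ} (hn : 20 ≤ n) (hk : 2 ≤ k) (hpk : (19 - 1) * k ≤ n - 1)
    (h1 : k * 8910 ∈ D n ∨ 2 * (k * 8910) ∈ D n) (h2 : k * 365750 ∈ D n ∨ 2 * (k * 365750) ∈ D n) : False :=
  spor_kill (s := 37) (lev7 (by norm_num)) (by norm_num) (by norm_num) (by norm_num) (by norm_num) (Or.inl (by norm_num))
    (by norm_num) (Or.inl (by norm_num)) chk_hn hn hk hpk h1 h2

end Cfsg.Agent.H504.AN
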