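import Cfsg.Agent.H504.AN.Rows
import Cfsg.Agent.H504.AN.SporNum
import Cfsg.Agent.H504.AN.SporNumL
import Cfsg.Agent.H504.AN.SporNumJ4
import Cfsg.Agent.H843.IMC.Co1B
import Cfsg.Agent.H843.IMC.Co2A
import Cfsg.Agent.H843.IMC.Co3A
import Cfsg.Agent.H816.IMM
import Cfsg.Agent.H995.IMBRow
import Cfsg.Agent.H642.MonoB
import Cfsg.Agent.H492.FactsON
import Cfsg.Agent.H492.FactsTh
import Cfsg.Agent.H492.IMJ4
import Cfsg.Agent.H492.IMHN
import Cfsg.Agent.H314.LyOrb.Deg
import Cfsg.Agent.H30.GraphFi24A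
import Cfsg.Agent.H678.DG.HeDegA
import Cfsg.Agent.H678.DG.Tits
import Cfsg.Agent.H3.DS.Fi22Row
import Cfsg.Agent.H672.SporIM.RankRows
import Cfsg.Agent.H765.DS.HSMcL
import Cfsg.Agent.H603.FD.Spor
import Cfsg.Agent.H175.Eight.J1
import Cfsg.Agent.H315.Eight.RowJ3
import Cfsg.Agent.H999.DS.RowRu
import Cfsg.Agent.NotCT.Orders
import Cfsg.Agent.H707.RowTits

/-!
# Several simple factors: sporadic groups and the Tits group (helper504, C2 of S4766)
-/

set_option autoImplicit false

namespace Cfsg.Agent.H504.AN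

open Cfsg Cfsg.Agent.H691.AN Cfsg.Agent.H704

universe u

theorem mem_of_irr {K : Type*} [Group K] {m : ℕ} (h : ∃ ψ : K → ℂ, IsIrrCharacter K ψ ∧ ψ 1 = ((m : ℕ) : ℂ)) :
    m ∈ charDegrees K := H424.DegTools.mem_charDegrees.2 h

theorem mem_of_irr' {K : Type*} [Group K] {m : ℕ} (h : ∃ ψ : IrrCharacter K, (ψ : K → ℂ) 1 = ((m : ℕ) : ℂ)) :
    m ∈ charDegrees K := by
  obtain ⟨ψ, h1⟩ := h
  exact mem_of_irr ⟨ψ, ψ.2, h1⟩

theorem mem_of_deg {K : Type*} [Group K] {m : ℕ} (h : ∃ ψ : IrrCharacter K, charDegree (ψ : K → ℂ) = m) :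
    m ∈ charDegrees K := h

theorem mem_of_equiv {K T : Type*} [Group K] [Group T] (e : K ≃* T) {m : ℕ} (h : m ∈ charDegrees T) :
    m ∈ charDegrees K := H424.DegTools.charDegrees_of_surjective e.toMonoidHom e.surjective h

section

variable {n k : ℕ} (hk : 2 ≤ k) (hn : 5 ≤ n) {S : Type u} [Group S] [Finite S] (hout : Nat.card (Out S) ≤ 2)
  (H : Hyp n k S)

include hk hn hout H

/-- `J₂` -/
theorem row_j2 (h : Spor.IsoJ2 S) : False := by
  obtain ⟨d63, d36⟩ := H672.SporIM.j2 h
  have h7 : 7 ∣ Nat.card S := by rw [NotCT.Orders.j2 h]; norm_num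
  have h3 := le_of_pow_dvd (p := 7) (by norm_num) (by omega) (H.pr 7 (by norm_num) h7)
  rw [show 7 - 1 = 6 by norm_num] at h3
  have k1 := H.two hout (a := 36) d36 (by norm_num)
  have k2 := H.two hout (a := 63) d63 (by norm_num)
  rcases Nat.lt_or_ge n 20 with h20 | h20
  · have hk3 : k = 2 ∨ k = 3 := by omega
    have hc : ∀ n : Fin 20, 13 ≤ (n : ℕ) → ∀ x ∈ [72, 144, 108, 216], (H835.AN.degA n).contains x = false := by
      decide +kernel
    have hkill : ∀ x ∈ [72, 144, 108, 216], x ∈ D n → False := by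
      intro x hx hx'
      have h5 := hc ⟨n, h20⟩ (by show 13 ≤ n; omega) x hx
      have h6 := mem_list hn (by omega) hx'
      have h7 : (H835.AN.degA n).contains x = true := by simpa using h6
      rw [show ((⟨n, h20⟩ : Fin 20) : ℕ) = n from rfl] at h5
      rw [h5] at h7
      exact absurd h7 (by decide)
    rcases hk3 with rfl | rfl <;> rcases k1 with k1 | k1
    · exact hkill 72 (by decide) k1
    · exact hkill 144 (by decide) k1
    · exact hkill 108 (by decide) k1
    · exact hkill 216 (by decide) k1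
  · exact kill_j2 h20 hk h3 k1 k2

theorem row_m11 (h : Spor.IsoM11 S) : False := by
  obtain ⟨h1, h2, -⟩ := H603.FD.Spor.m11 (UGT.End.MEleven.isM11 h)
  exact spor_row hk hn hout H (p := 11) (a := 10) (b := 45) (by norm_num) (by norm_num)
    (by rw [NotCT.Orders.m11 h]; norm_num) h1 h2 (by norm_num) (by norm_num) kill_m11

theorem row_m12 (h : Spor.IsoM12 S) : False := by
  obtain ⟨h1, h2, -⟩ := H603.FD.Spor.m12 (H603.FD.Spor.isM12 h)
  exact spor_row hk hn hout H (p := 11) (a := 16) (b := 45) (by norm_num) (by norm_num)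
    (by rw [NotCT.Orders.m12 h]; norm_num) h1 h2 (by norm_num) (by norm_num) kill_m12

theorem row_m22 (h : Spor.IsoM22 S) : False := by
  obtain ⟨h1, h2, -⟩ := H603.FD.Spor.m22 (H417.RecogMathieu.isM22 h)
  exact spor_row hk hn hout H (p := 11) (a := 21) (b := 45) (by norm_num) (by norm_num)
    (by rw [NotCT.Orders.m22 h]; norm_num) h1 h2 (by norm_num) (by norm_num) kill_m22

theorem row_m23 (h : Spor.IsoM23 S) : False := by
  obtain ⟨h1, h2, -⟩ := H603.FD.Spor.m23 (H417.RecogMathieu.isM23 h)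
  exact spor_row hk hn hout H (p := 23) (a := 45) (b := 230) (by norm_num) (by norm_num)
    (by rw [NotCT.Orders.m23 h]; norm_num) h2 h1 (by norm_num) (by norm_num) kill_m23

theorem row_m24 (h : Spor.IsoM24 S) : False := by
  obtain ⟨h1, -, h2, -⟩ := H603.FD.Spor.m24 (H417.RecogMathieu.isM24 h)
  exact spor_row hk hn hout H (p := 23) (a := 1035) (b := 1771) (by norm_num) (by norm_num)
    (by rw [NotCT.Orders.m24 h]; norm_num) h1 h2 (by norm_num) (by norm_num) kill_m24

theorem row_j1 (h : Spor.IsoJ1 S) : False :=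
  spor_row hk hn hout H (p := 19) (a := 56) (b := 76) (by norm_num) (by norm_num)
    (by rw [NotCT.Orders.j1 h]; norm_num) ((H175.Eight.mem_j1 h 56).2 (by decide)) ((H175.Eight.mem_j1 h 76).2 (by decide))
    (by norm_num) (by norm_num) kill_j1

theorem row_j3 (h : Spor.IsoJ3 S) : False := by
  classical
  have := Cfsg.Agent.Characters.Core.finite_irr (G := S)
  have := Fintype.ofFinite (IrrCharacter S)
  obtain ⟨V, hV, HV⟩ := H417.JThreeDeg.hyp h
  have key : ∀ m : ℕ, (∃ χ, V χ 0 = (m : ℤ)) → m ∈ charDegrees S := by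
    rintro m ⟨χ, hχ⟩
    refine ⟨χ, ?_⟩
    rw [hV χ] at hχ
    exact_mod_cast hχ
  exact spor_row hk hn hout H (p := 19) (a := 324) (b := 816) (by norm_num) (by norm_num)
    (by rw [NotCT.Orders.j3 h]; norm_num) (key 324 (H315.Eight.RowJ3.deg_324 HV))
    (key 816 (H315.Eight.RowJ3.deg_816 HV)) (by norm_num) (by norm_num) kill_j3

theorem row_j4 (h : Spor.IsoJ4 S) : False := by
  have hc := NotCT.Orders.j4 h
  obtain ⟨e⟩ := h
  exact spor_row hk hn hout H (p := 43) (a := 889111) (b := 1776888) (by norm_num) (by norm_num)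
    (by rw [hc]; norm_num) (mem_of_equiv e (mem_of_irr' H492.IMJ4.exists_889111))
    (mem_of_equiv e (mem_of_irr' H492.IMJ4.exists_1776888)) (by norm_num) (by norm_num) kill_j4

theorem row_hs (h : Spor.IsoHS S) : False :=
  spor_row hk hn hout H (p := 11) (a := 22) (b := 77) (by norm_num) (by norm_num)
    (by rw [NotCT.Orders.hs h]; norm_num) (mem_of_irr (H765.DS.HSMcL.hs_22 h)) (mem_of_irr (H765.DS.HSMcL.hs_77 h))
    (by norm_num) (by norm_num) kill_hs

theorem row_mcl (h : Spor.IsoMcL S) : False :=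
  spor_row hk hn hout H (p := 11) (a := 22) (b := 252) (by norm_num) (by norm_num)
    (by rw [NotCT.Orders.mcl h]; norm_num) (mem_of_irr (H765.DS.HSMcL.mcl_22 h)) (mem_of_irr (H765.DS.HSMcL.mcl_252 h))
    (by norm_num) (by norm_num) kill_mcl

theorem row_suz (h : Spor.IsoSuz S) : False := by
  obtain ⟨h1, h2⟩ := H672.SporIM.suz h
  exact spor_row hk hn hout H (p := 13) (a := 780) (b := 1001) (by norm_num) (by norm_num)
    (by rw [NotCT.Orders.suz h]; norm_num) h2 h1 (by norm_num) (by norm_num) kill_suz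

theorem row_fi22 (h : Spor.IsoFi22 S) : False := by
  obtain ⟨h1, h2⟩ := H3.DS.Fi22.exists_deg h
  exact spor_row hk hn hout H (p := 13) (a := 429) (b := 3080) (by norm_num) (by norm_num)
    (by rw [NotCT.Orders.fi22 h]; norm_num) (mem_of_irr h1) (mem_of_irr h2) (by norm_num) (by norm_num) kill_fi22

theorem row_fi23 (h : Spor.IsoFi23 S) : False := by
  obtain ⟨h1, h2⟩ := H672.SporIM.fi23 h
  exact spor_row hk hn hout H (p := 23) (a := 782) (b := 30888) (by norm_num) (by norm_num)
    (by rw [NotCT.Orders.fi23 h]; norm_num) h2 h1 (by norm_num) (by norm_num) kill_fi23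

theorem row_fi24 (h : Spor.IsoFi24' S) : False := by
  have hc := NotCT.Orders.fi24 h
  obtain ⟨e⟩ := h
  exact spor_row hk hn hout H (p := 29) (a := 57477) (b := 249458) (by norm_num) (by norm_num)
    (by rw [hc]; norm_num) (mem_of_equiv e H30.GraphFi24.exists_deg.1)
    (mem_of_equiv e H30.GraphFi24.exists_deg.2) (by norm_num) (by norm_num) kill_fi24

theorem row_he (h : Spor.IsoHe S) : False := by
  have hc := NotCT.Orders.he h
  obtain ⟨e⟩ := h
  exact spor_row hk hn hout H (p := 17) (a := 680) (b := 1275) (by norm_num) (by norm_num)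
    (by rw [hc]; norm_num) (mem_of_equiv e H678.DG.HeDegA.deg_680)
    (mem_of_equiv e H678.DG.HeDegA.deg_1275) (by norm_num) (by norm_num) kill_he

theorem row_on (h : Spor.IsoON S) : False := by
  have hc := NotCT.Orders.on h
  obtain ⟨e⟩ := h
  exact spor_row hk hn hout H (p := 31) (a := 10944) (b := 32395) (by norm_num) (by norm_num)
    (by rw [hc]; norm_num) (mem_of_equiv e (mem_of_irr' H492.FactsON.exists_10944))
    (mem_of_equiv e (mem_of_irr' H492.FactsON.exists_32395)) (by norm_num) (by norm_num) kill_on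

theorem row_th (h : Spor.IsoTh S) : False := by
  have hc := NotCT.Orders.th h
  obtain ⟨e⟩ := h
  exact spor_row hk hn hout H (p := 31) (a := 30875) (b := 61256) (by norm_num) (by norm_num)
    (by rw [hc]; norm_num) (mem_of_equiv e (mem_of_irr' H492.FactsTh.exists_30875))
    (mem_of_equiv e (mem_of_irr' H492.FactsTh.exists_61256)) (by norm_num) (by norm_num) kill_th

theorem row_hn (h : Spor.IsoHN S) : False := by
  have hc := NotCT.Orders.hn h
  obtain ⟨e⟩ := h
  exact spor_row hk hn hout H (p := 19) (a := 8910) (b := 365750) (by norm_num) (by norm_num)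
    (by rw [hc]; norm_num) (mem_of_equiv e (mem_of_irr' H492.IMHN.exists_8910))
    (mem_of_equiv e (mem_of_irr' H492.IMHN.exists_365750)) (by norm_num) (by norm_num) kill_hn

theorem row_ly (h : Spor.IsoLy S) : False := by
  have hc := NotCT.Orders.ly h
  obtain ⟨e⟩ := h
  obtain ⟨χ, -, hχ⟩ := H314.LyOrb.exists_deg_ly
  exact spor_row hk hn hout H (p := 67) (a := 45694) (b := 1534500) (by norm_num) (by norm_num)
    (by rw [hc]; norm_num) (mem_of_equiv e ⟨χ 1, hχ 1⟩) (mem_of_equiv e ⟨χ 2, hχ 2⟩) (by norm_num) (by norm_num) kill_ly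

theorem row_co1 (h : Spor.IsoCo1 S) : False := by
  have hc := NotCT.Orders.co1 h
  obtain ⟨e⟩ := h
  exact spor_row hk hn hout H (p := 23) (a := 276) (b := 299) (by norm_num) (by norm_num)
    (by rw [hc]; norm_num) (mem_of_equiv e H843.IMC.Co1B.hasDeg_276) (mem_of_equiv e H843.IMC.Co1B.hasDeg_299)
    (by norm_num) (by norm_num) kill_co1

theorem row_co2 (h : Spor.IsoCo2 S) : False := by
  have hc := NotCT.Orders.co2 h
  obtain ⟨e⟩ := h
  exact spor_row hk hn hout H (p := 23) (a := 23) (b := 275) (by norm_num) (by norm_num)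
    (by rw [hc]; norm_num) (mem_of_equiv e H843.IMC.Co2A.hasDeg_23) (mem_of_equiv e H843.IMC.Co2A.hasDeg_2024_275.2)
    (by norm_num) (by norm_num) kill_co2

theorem row_co3 (h : Spor.IsoCo3 S) : False := by
  have hc := NotCT.Orders.co3 h
  obtain ⟨e⟩ := h
  exact spor_row hk hn hout H (p := 23) (a := 23) (b := 275) (by norm_num) (by norm_num)
    (by rw [hc]; norm_num) (mem_of_equiv e H843.IMC.Co3A.hasDeg_23) (mem_of_equiv e H843.IMC.Co3A.hasDeg_275)
    (by norm_num) (by norm_num) kill_co3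

theorem row_ru (h : Spor.IsoRu S) : False := by
  have hc := NotCT.Orders.ru h
  obtain ⟨e⟩ := h
  obtain ⟨χ, θ, hχ, hθ⟩ := H999.DS.ru_chars
  exact spor_row hk hn hout H (p := 29) (a := 783) (b := 3276) (by norm_num) (by norm_num)
    (by rw [hc]; norm_num) (mem_of_equiv (e.trans Cfsg.Agent.RuLat.Main.equiv) (mem_of_irr ⟨χ, χ.2, hχ⟩))
    (mem_of_equiv (e.trans Cfsg.Agent.RuLat.Main.equiv) (mem_of_irr ⟨θ, θ.2, hθ⟩)) (by norm_num) (by norm_num) kill_ru

theorem row_b (h : Spor.IsoB S) : False := by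
  have hc := NotCT.Orders.b h
  have h2 : 96255 ∈ charDegrees S := by
    obtain ⟨χ, -, h1⟩ := H995.IMB.deg_b h (d := 96255) (by decide)
    exact ⟨χ, h1⟩
  have h1 : 4371 ∈ charDegrees S := by
    obtain ⟨e⟩ := h
    obtain ⟨θ, h1, -, h2⟩ := (H642.Mono.minDeg_b.congr e.symm).ex
    exact ⟨⟨θ, h1⟩, h2⟩
  exact spor_row hk hn hout H (p := 47) (a := 4371) (b := 96255) (by norm_num) (by norm_num)
    (by rw [hc]; norm_num) h1 h2 (by norm_num) (by norm_num) kill_bm

theorem row_m (h : Spor.IsoM S) : False := by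
  have hc := NotCT.Orders.m h
  obtain ⟨χ, h1, h2⟩ := H816.IMM.exists_chi_196883 h
  obtain ⟨ψ, h3, h4⟩ := H816.IMM.exists_chi_842609326 h
  exact spor_row hk hn hout H (p := 71) (a := 196883) (b := 842609326) (by norm_num) (by norm_num)
    (by rw [hc]; norm_num) (mem_of_irr ⟨χ, h1, by rw [h2]; norm_num⟩) (mem_of_irr ⟨ψ, h3, by rw [h4]; norm_num⟩)
    (by norm_num) (by norm_num) kill_mm

theorem row_tits (h : Lie.IsoTits S) : False := by
  have hc := NotCT.Orders.tits h
  obtain ⟨e⟩ := h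
  obtain ⟨f⟩ := H707.RowTits.equiv
  exact spor_row hk hn hout H (p := 13) (a := 78) (b := 650) (by norm_num) (by norm_num)
    (by rw [hc]; norm_num) (mem_of_equiv (e.trans f) H678.DG.Tits.deg_78)
    (mem_of_equiv (e.trans f) H678.DG.Tits.deg_650) (by norm_num) (by norm_num) kill_tits

theorem row_sporadic (h : IsSporadicGroup S) : False := by
  rcases h with h | h | h | h | h | h | h | h | h | h | h | h | h | h | h | h | h | h | h | h | h | h | h | h | h | h
  · exact row_m11 hk hn hout H h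
  · exact row_m12 hk hn hout H h
  · exact row_m22 hk hn hout H h
  · exact row_m23 hk hn hout H h
  · exact row_m24 hk hn hout H h
  · exact row_j1 hk hn hout H h
  · exact row_j2 hk hn hout H h
  · exact row_j3 hk hn hout H h
  · exact row_j4 hk hn hout H h
  · exact row_co1 hk hn hout H h
  · exact row_co2 hk hn hout H h
  · exact row_co3 hk hn hout H h
  · exact row_mcl hk hn hout H h
  · exact row_hs hk hn hout H h
  · exact row_suz hk hn hout H h
  · exact row_he hk hn hout H h
  · exact row_ru hk hn hout H h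
  · exact row_on hk hn hout H h
  · exact row_ly hk hn hout H h
  · exact row_fi22 hk hn hout H h
  · exact row_fi23 hk hn hout H h
  · exact row_fi24 hk hn hout H h
  · exact row_hn hk hn hout H h
  · exact row_th hk hn hout H h
  · exact row_b hk hn hout H h
  · exact row_m hk hn hout H h

end

end Cfsg.Agent.H504.AN
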